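import Cfsg.Agent.BH.TB
import Cfsg.Agent.S0917
import Cfsg.Agent.H591.Cliff
import Cfsg.Agent.CharactersDeep.NormalInd

/-!
# BH, box HN: normal subgroups (helper35)

* `cov_or` : Fong–Reynolds;
* `cliff` : the Clifford correspondent and its block;
* `hn` : the covered block has all heights zero (Murai);
* `tbG` : every member of the covered block extends to `N D'` for a defect group `D'`, and `D' N / N` is abelian.
-/

set_option autoImplicit false
set_option linter.style.haveILetI false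
set_option linter.unusedSectionVars false

open Cfsg
open scoped commutatorElement

namespace Cfsg.Agent.BH.TB

open Cfsg.Agent Cfsg.Agent.Characters.Core Cfsg.Agent.Blocks Cfsg.Agent.TID.Red Cfsg.Agent.KM.BK Cfsg.Agent.KM.Mu
open Cfsg.Agent.H591.Reynolds (IsStab)
open Cfsg.Agent.H592.Transport (tr tr_apply)
open Cfsg.Agent.OddOrderCharacters.PF9.CliffGen (inertia mem_inertia' le_inertia)

universe u

variable {p : ℕ} [Fact p.Prime] {M : Ideal AlgInt} {G : Type u} [Group G] [Finite G]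
  {B : Set (IrrCharacter G)} {D : Subgroup G}

theorem df_hz (hM : IsPModular p M) (hB : IsPBlock M B) (hD : IsDefectGroup p M B D) (h : HZ p B)
    {χ : IrrCharacter G} (hχ : χ ∈ B) : df p χ = (Nat.card D).factorization p := by
  refine le_antisymm (df_le hM hB hD hχ) (H592.Defect.card_defect_le p hM hB hD fun ψ hψ => ?_)
  have h1 := eq_iff_hz.2 h χ hχ ψ hψ
  have h2 := df_add (p := p) χ
  change _ ≤ nu p ψ + _
  omega

theorem fac_defect (hM : IsPModular p M) (hB : IsPBlock M B) (hD : IsDefectGroup p M B D) {E : Subgroup G}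
    (hE : IsDefectGroup p M B E) : (Nat.card D).factorization p = (Nat.card E).factorization p := by
  rw [H592.Defect.factorization_card_defect p hM hB hD, H592.Defect.factorization_card_defect p hM hB hE]

theorem df_ind [Fintype G] (T : Subgroup G) (ψ : IrrCharacter T) (χ : IrrCharacter G)
    (h : indFun T (ψ : T → ℂ) = χ) : df p χ = df p ψ := by
  have h1 : charDegree (χ : G → ℂ) = T.index * charDegree (ψ : T → ℂ) := by
    have h2 := CharactersDeep.NormalInd.indFun_one T (ψ : T → ℂ)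
    rw [h, Basic.irr_one_eq_charDegree χ.2, Basic.irr_one_eq_charDegree ψ.2] at h2
    exact_mod_cast h2
  have h2 := fac_mul (p := p) h1.symm (Basic.charDegree_pos χ.2).ne'
  have h3 := fac_mul (p := p) T.index_mul_card Nat.card_pos.ne'
  have h4 := df_add (p := p) χ
  have h5 := df_add (p := p) ψ
  change _ + nu p ψ = nu p χ at h2
  omega

variable {N : Subgroup G} [hN : N.Normal]

/-- **Fong–Reynolds.** -/
theorem cov_or (hM : IsPModular p M) (hB : IsPBlock M B) (hD : IsDefectGroup p M B D) (hz : HZ p B)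
    (N : Subgroup G) [hN : N.Normal] (ih : ∀ T : Subgroup G, T ≠ ⊤ → N ≤ T → BZ p M T) :
    Ab D ∨ (IsPBlock M (cov B N) ∧ IsStab (cov B N) ⊤) := by
  have := Local.isPrime_of_isPModular hM
  letI := Fintype.ofFinite G
  letI := Fintype.ofFinite N
  obtain ⟨χ, hχ⟩ := Basic.isPBlock_nonempty hB
  obtain ⟨θ, hθ⟩ := exists_ov N.subtype χ.2
  have hβ : IsPBlock M (blockOf M (θ : N → ℂ)) := ⟨θ, rfl⟩
  have hθβ : θ ∈ blockOf M (θ : N → ℂ) := Basic.mem_blockOf_self θ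
  obtain ⟨T, hT⟩ := exists_isStab hβ
  by_cases h : T = ⊤
  · right
    subst h
    have h1 : cov B N = blockOf M (θ : N → ℂ) := by
      ext ψ
      constructor
      · rintro ⟨χ', hχ', h2⟩
        obtain ⟨g, θ', hθ', h3⟩ := S0964.result p M hM N B hB _ hβ χ hχ θ hθβ ((ov_subtype_iff N _ _).1 hθ) χ' hχ' ψ
          ((ov_subtype_iff N _ _).1 h2)
        exact (hT g).1 (Subgroup.mem_top g) θ' hθ' ψ h3
      · intro hψ
        obtain ⟨χ', hχ', h2⟩ := S4432.result p M hM N B hB _ hβ ⟨χ, hχ, θ, hθβ, (ov_subtype_iff N _ _).1 hθ⟩ ψ hψ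
        exact ⟨χ', hχ', (ov_subtype_iff N _ _).2 h2⟩
    rw [h1]
    exact ⟨hβ, hT⟩
  · left
    obtain ⟨B', hB', hcov, hi⟩ := FR_down hM hβ hT (hT.le hβ) hB ⟨χ, hχ, θ, hθβ, hθ⟩
    obtain ⟨D', hD'⟩ := H592.Defect.exists_defectGroup p hM hB'
    have h1 := FR_defect hM hβ hT (hT.le hβ) hB' hcov hi hD'
    exact ab_of_defect hM hB h1 ((ih T h (hT.le hβ) B' D' hB' hD' (eq_iff_hz.1 (eq_of_cnt
      (fun d => (FR_cnt hM hβ hT (hT.le hβ) hB' hcov hi d).symm) (eq_iff_hz.2 hz)))).map _) hD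

/-- **The Clifford correspondent.** -/
theorem cliff (hM : IsPModular p M) (hB : IsPBlock M B) (hD : IsDefectGroup p M B D) (hz : HZ p B)
    {θ : IrrCharacter N} (hθ : θ ∈ cov B N) :
    ∃ (hNT : N ≤ inertia N (θ : N → ℂ)) (B' : Set (IrrCharacter (inertia N (θ : N → ℂ))))
      (D' : Subgroup (inertia N (θ : N → ℂ))), IsPBlock M B' ∧ IsDefectGroup p M B' D' ∧
      IsDefectGroup p M B (D'.map (inertia N (θ : N → ℂ)).subtype) ∧
      (∃ ψ ∈ B', Ov (Subgroup.inclusion hNT) (ψ : inertia N (θ : N → ℂ) → ℂ) (θ : N → ℂ)) ∧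
      ∀ ψ ∈ B', Ov (Subgroup.inclusion hNT) (ψ : inertia N (θ : N → ℂ) → ℂ) (θ : N → ℂ) →
        df p ψ = (Nat.card D').factorization p := by
  have := Local.isPrime_of_isPModular hM
  letI := Fintype.ofFinite G
  letI := Fintype.ofFinite N
  set T := inertia N (θ : N → ℂ) with hT
  letI := Fintype.ofFinite T
  have hNT : N ≤ T := le_inertia (isIrr_isClassFunction θ.2)
  obtain ⟨χ, hχ, hov⟩ := hθ
  obtain ⟨ψ, hψ, h1, h2⟩ := CharDeep.CliffordCorr.clifford_correspondence N (θ : N → ℂ) θ.2 T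
    (fun g => mem_inertia') hNT χ χ.2 ((ov_subtype_iff N _ _).1 hov)
  have hb : IsPBlock M (blockOf M ψ) := ⟨⟨ψ, hψ⟩, rfl⟩
  have hi : IsInducedBlock M T (blockOf M ψ) B := by
    have h3 := S0933.result p M hM T ⟨ψ, hψ⟩ (by rw [show ((⟨ψ, hψ⟩ : IrrCharacter T) : T → ℂ) = ψ from rfl, h1]; exact χ.2)
    change IsInducedBlock M T (blockOf M ψ) (blockOf M (indFun T ψ)) at h3
    rwa [h1, ← Basic.isPBlock_eq_blockOf hB hχ] at h3
  obtain ⟨D', hD'⟩ := H592.Defect.exists_defectGroup p hM hb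
  obtain ⟨E, hE, hle⟩ := S0917.result p M hM T _ hb B hB hi D' hD'
  have hc : Nat.card (D'.map T.subtype) = Nat.card D' := Subgroup.card_map_of_injective T.subtype_injective
  have key : ∀ φ ∈ blockOf M ψ, Ov (Subgroup.inclusion hNT) (φ : T → ℂ) (θ : N → ℂ) →
      df p φ = (Nat.card E).factorization p := fun φ hφ h3 => by
    have h4 := H591.Cliff.irr_ind (K := G) θ.2 (T := T) (fun g hg => hg) hNT φ.2 ((ov_inclusion_iff hNT _ _).1 h3)
    have h5 := S0933.result p M hM T φ h4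
    rw [← Basic.isPBlock_eq_blockOf hb hφ] at h5
    have h6 : (⟨_, h4⟩ : IrrCharacter G) ∈ B := by
      rw [← H592.Transit.induced_unique h5 hi]
      exact Basic.mem_blockOf_self (⟨_, h4⟩ : IrrCharacter G)
    rw [← df_ind T φ ⟨_, h4⟩ rfl, df_hz hM hB hE hz h6]
  have hov' : Ov (Subgroup.inclusion hNT) ψ (θ : N → ℂ) := by
    rw [ov_iff]
    exact h2.trans_ne ((ov_subtype_iff N _ _).1 hov)
  have hm : (⟨ψ, hψ⟩ : IrrCharacter T) ∈ blockOf M ψ := Basic.mem_blockOf_self (⟨ψ, hψ⟩ : IrrCharacter T)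
  have h3 : D'.map T.subtype = E := H592.Defect.eq_of_le_of_factorization p
    ((H592.Defect.isPGroup_of_isDefectGroup hD').map _) (H592.Defect.isPGroup_of_isDefectGroup hE) hle (by
      rw [hc, ← key _ hm hov']
      exact df_le hM hb hD' hm)
  exact ⟨hNT, _, D', hb, hD', h3 ▸ hE, ⟨_, hm, hov'⟩, fun φ hφ h4 => by rw [key φ hφ h4, ← h3, hc]⟩

omit [Finite G] hN in
theorem card_inf_sub {T : Subgroup G} (D' : Subgroup T) :
    Nat.card (D' ⊓ N.subgroupOf T : Subgroup T) = Nat.card (D'.map T.subtype ⊓ N : Subgroup G) := by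
  rw [← Subgroup.card_map_of_injective T.subtype_injective]
  congr 2
  ext x
  constructor
  · rintro ⟨y, hy, rfl⟩
    exact ⟨⟨y, hy.1, rfl⟩, hy.2⟩
  · rintro ⟨⟨y, hy, rfl⟩, h⟩
    exact ⟨y, ⟨hy, h⟩, rfl⟩

theorem df_tr {A : Type u} [Group A] [Finite A] (e : A ≃* G) (θ : IrrCharacter G) : df p (tr e θ) = df p θ := by
  have h1 := df_add (p := p) θ
  have h2 := df_add (p := p) (tr e θ)
  have h3 : nu p (tr e θ) = nu p θ := by
    unfold nu charDegree
    rw [tr_apply, map_one]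
  rw [Nat.card_congr e.toEquiv] at h2
  omega

theorem inv_tr (θ : IrrCharacter N) (hNT : N ≤ inertia N (θ : N → ℂ)) (g : inertia N (θ : N → ℂ))
    (n : N.subgroupOf (inertia N (θ : N → ℂ))) :
    (tr (Subgroup.subgroupOfEquivOfLe hNT) θ : N.subgroupOf (inertia N (θ : N → ℂ)) → ℂ)
      ⟨g * n * g⁻¹, Subgroup.Normal.conj_mem inferInstance _ n.2 g⟩ =
    (tr (Subgroup.subgroupOfEquivOfLe hNT) θ : N.subgroupOf (inertia N (θ : N → ℂ)) → ℂ) n :=
  mem_inertia'.1 g.2 ⟨n, n.2⟩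

/-- **The covered block has all heights zero.** -/
theorem hn (hM : IsPModular p M) (hB : IsPBlock M B) (hz : HZ p B) (hc : IsPBlock M (cov B N)) :
    HZ p (cov B N) := by
  intro θ hθ
  obtain ⟨D, hD⟩ := H592.Defect.exists_defectGroup p hM hB
  obtain ⟨hNT, B', D', hB', hD', hD'', ⟨ψ, hψ, hov⟩, h1⟩ := cliff hM hB hD hz hθ
  have h2 := tb0 hM hB' hD' (inv_tr θ hNT) hψ
    ((ov_src_iff (Subgroup.subgroupOfEquivOfLe hNT) (fun _ => rfl) _ θ).2 hov)
  rw [df_tr, card_inf_sub, h1 ψ hψ hov] at h2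
  refine height_zero hM hc (defect_cov hM hB hD'' hc) ?_
  rw [card_sub inf_le_right]
  omega

/-- **Extension to `N D'`.** -/
theorem tbG (hM : IsPModular p M) (hB : IsPBlock M B) (hz : HZ p B) (hc : IsPBlock M (cov B N))
    (ih : ∀ (H : Type u) [Group H] [Finite H], (Subgroup.center H).index ≤ N.index → BZ p M H)
    {θ : IrrCharacter N} (hθ : θ ∈ cov B N) : ∃ D, IsDefectGroup p M B D ∧ D ≤ inertia N (θ : N → ℂ) ∧
      (∀ x ∈ D, ∀ y ∈ D, ⁅x, y⁆ ∈ N) ∧ ∃ ξ : IrrCharacter (N ⊔ D : Subgroup G),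
        ∀ n : N, (ξ : (N ⊔ D : Subgroup G) → ℂ) ⟨n, le_sup_left (b := D) n.2⟩ = (θ : N → ℂ) n := by
  obtain ⟨D, hD⟩ := H592.Defect.exists_defectGroup p hM hB
  obtain ⟨hNT, B', D', hB', hD', hD'', ⟨ψ, hψ, hov⟩, h1⟩ := cliff hM hB hD hz hθ
  have h2 := df_le hM hc (defect_cov hM hB hD'' hc) hθ
  rw [card_sub inf_le_right] at h2
  obtain ⟨h3, ξ, h4⟩ := tb1 hM hB' hD' (inv_tr θ hNT)
    ⟨ψ, hψ, (ov_src_iff (Subgroup.subgroupOfEquivOfLe hNT) (fun _ => rfl) _ θ).2 hov⟩ (fun φ hφ h3 => by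
      rw [df_tr, card_inf_sub, h1 φ hφ ((ov_src_iff (Subgroup.subgroupOfEquivOfLe hNT) (fun _ => rfl) _ θ).1 h3)]
      omega) fun H _ _ hH => ih H (hH.trans (Nat.le_of_dvd (Nat.pos_of_ne_zero Subgroup.index_ne_zero_of_finite)
        (Subgroup.relIndex_dvd_index_of_le hNT)))
  refine ⟨_, hD'', Subgroup.map_subtype_le _, ?_, ?_⟩
  · rintro _ ⟨x, hx, rfl⟩ _ ⟨y, hy, rfl⟩
    exact h3 x hx y hy
  · have h5 : (N.subgroupOf (inertia N (θ : N → ℂ)) ⊔ D').map (inertia N (θ : N → ℂ)).subtype =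
        N ⊔ D'.map (inertia N (θ : N → ℂ)).subtype := by
      rw [Subgroup.map_sup, Subgroup.subgroupOf_map_subtype, inf_eq_left.2 hNT]
    let e := ((N.subgroupOf (inertia N (θ : N → ℂ)) ⊔ D').equivMapOfInjective _
      (inertia N (θ : N → ℂ)).subtype_injective).trans (MulEquiv.subgroupCongr h5)
    refine ⟨tr e.symm ξ, fun n => ?_⟩
    rw [tr_apply]
    refine Eq.trans (congrArg _ ?_) (h4 ⟨⟨n, hNT n.2⟩, n.2⟩)
    rw [MulEquiv.symm_apply_eq]
    rfl

/-- `D N / N` is abelian -/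
theorem comm_mem (hM : IsPModular p M) (hB : IsPBlock M B) (hD : IsDefectGroup p M B D) (hz : HZ p B)
    (hc : IsPBlock M (cov B N))
    (ih : ∀ (H : Type u) [Group H] [Finite H], (Subgroup.center H).index ≤ N.index → BZ p M H) :
    ∀ x ∈ D, ∀ y ∈ D, ⁅x, y⁆ ∈ N := by
  have := Local.isPrime_of_isPModular hM
  obtain ⟨θ, hθ⟩ := Basic.isPBlock_nonempty hc
  obtain ⟨E, hE, -, h1, -⟩ := tbG hM hB hz hc ih hθ
  obtain ⟨g, rfl⟩ := conj_defect hM hB hE hD
  rintro _ ⟨x, hx, rfl⟩ _ ⟨y, hy, rfl⟩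
  rw [← map_commutatorElement]
  exact hN.conj_mem _ (h1 x hx y hy) g

end Cfsg.Agent.BH.TB
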