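import Cfsg.Agent.KM.Mu.A
import Cfsg.Agent.KM.Defs
import Cfsg.Agent.KM.Two.Defs
import Cfsg.Agent.TO.Box

/-!
# BH (S4524): definitions and boxes (helper77)

All heights zero implies an abelian defect group: reduction to quasisimple groups.  Paper proofs: `notes/BH/plan.md`.
Every box is a `Prop` depending on `p` and `M`; groups live in `Type`.
-/

set_option autoImplicit false

namespace Cfsg.Agent.BH

open Cfsg Cfsg.Agent.TID.Red Cfsg.Agent.KM.BK Cfsg.Agent.TO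
open Cfsg.Agent.H591.Reynolds (IsStab)
open Cfsg.Agent.KM.Mu (df)
open Cfsg.Agent.KM.Two (Idx)

/-- blocks of `G` with all heights zero have abelian defect groups -/
def BHg (p : ℕ) (M : Ideal AlgInt) (G : Type) [Group G] : Prop :=
  ∀ (B : Set (IrrCharacter G)) (D : Subgroup G), IsPBlock M B → IsDefectGroup p M B D → EQ p B → Ab D

/-- abelian defect groups give height zero, for all finite groups -/
abbrev KMa (p : ℕ) : Prop := KMp.{0} p

theorem KMa.pp {p : ℕ} {M : Ideal AlgInt} (h : KMa p) (hM : IsPModular p M) (H : Type) [Group H] [Finite H] :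
    PP p M H := pp_iff.2 (h M hM H)

/-- the statement for the groups with central index at most `m` -/
def IHz (p : ℕ) (M : Ideal AlgInt) (m : ℕ) : Prop :=
  ∀ (H : Type) [Group H] [Finite H], (Subgroup.center H).index ≤ m → BHg p M H

/-- the quasisimple case (one half of S4893) -/
def QSb (p : ℕ) (M : Ideal AlgInt) : Prop := ∀ (K : Type) [Group K] [Finite K], IsQuasisimple K → BHg p M K

/-- `ν_p` of the order -/
noncomputable abbrev nc (p : ℕ) {G : Type} [Group G] (D : Subgroup G) : ℕ := (Nat.card D).factorization p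

/-- the conjugate `g D g⁻¹` -/
abbrev cj {G : Type} [Group G] (g : G) (D : Subgroup G) : Subgroup G := D.map (MulAut.conj g).toMonoidHom

/-- `θ` (a character of `N`) is the restriction of an irreducible character of `R` -/
def ExtTo {G : Type} [Group G] (N R : Subgroup G) (θ : N → ℂ) : Prop :=
  ∃ ξ : G → ℂ, IsIrrCharacter R (fun x => ξ x) ∧ ∀ n : N, ξ n = θ n

/-- `g` fixes the function `θ` on the normal subgroup `N` -/
def Fixes {G : Type} [Group G] (N : Subgroup G) (g : G) (θ : N → ℂ) : Prop :=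
  ∀ n n' : N, (n' : G) = g * n * g⁻¹ → θ n' = θ n

/-- a counterexample with the induction hypothesis -/
structure Ctx (p : ℕ) (M : Ideal AlgInt) {G : Type} [Group G] (B : Set (IrrCharacter G)) (D : Subgroup G) : Prop where
  hM : IsPModular p M
  hB : IsPBlock M B
  hD : IsDefectGroup p M B D
  hz : EQ p B
  na : ¬ Ab D
  km : KMa p
  ih : ∀ (H : Type) [Group H] [Finite H], Lt H G → BHg p M H

/-- the standard properties of a minimal counterexample -/
structure Min (p : ℕ) (M : Ideal AlgInt) {G : Type} [Group G] [Finite G] (B : Set (IrrCharacter G))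
    (D : Subgroup G) : Prop extends Ctx p M B D where
  blk : ∀ (N : Subgroup G) [N.Normal], IsPBlock M (cov B N)
  stab : ∀ (N : Subgroup G) [N.Normal], IsStab (cov B N) ⊤
  hzc : ∀ (N : Subgroup G) [N.Normal], EQ p (cov B N)
  ab : ∀ (N : Subgroup G) [N.Normal], N ≠ ⊤ → Ab (D ⊓ N)
  gen : ∀ (N : Subgroup G) [N.Normal], D ≤ N → N = ⊤
  zero : ∀ (N : Subgroup G) [N.Normal], D ⊓ N = ⊥ → N ≤ Subgroup.center G
  zp : ¬ p ∣ Nat.card (Subgroup.center G)
  cyc : IsCyclic (Subgroup.center G)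
  faith : ∀ χ ∈ B, ∀ z ∈ Subgroup.center G, (χ : G → ℂ) z = (χ : G → ℂ) 1 → z = 1
  ext : ∀ (N : Subgroup G) [N.Normal], ∀ θ ∈ cov B N, ∃ g : G,
    (∀ d ∈ cj g D, Fixes N d (θ : N → ℂ)) ∧ ExtTo N (N ⊔ cj g D) (θ : N → ℂ)

/-- `θ`, zero outside `N`, is the canonical character of a root of the block `b` of `N` with the abelian defect
group `Q` -/
structure Root (p : ℕ) (M : Ideal AlgInt) {G : Type} [Group G] (N : Subgroup G) (b : Set (IrrCharacter N))
    (Q : Subgroup G) (θ : G → ℂ) : Prop where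
  le : Q ≤ N
  zero : ∀ g, g ∉ N → θ g = 0
  can : Can p M b (Q.subgroupOf N) (fun n : N => θ n)

/-- `C_Q(E)` for the inertial quotient `E` of the root `θ` in `N` -/
def Zr {G : Type} [Group G] (N Q : Subgroup G) (θ : G → ℂ) : Subgroup G := Q ⊓ Ce (In Q θ ⊓ N)

/-- the members of the block of `N_N(Q, θ)` which covers the root -/
def LocB (M : Ideal AlgInt) {G : Type} [Group G] [Finite G] (N Q : Subgroup G) (θ : G → ℂ) :
    Set (IrrCharacter (N ⊓ In Q θ : Subgroup G)) :=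
  {η | ∃ ξ ∈ blockOf M (fun c : (Ce Q).subgroupOf (N ⊓ In Q θ) => θ ((c : (N ⊓ In Q θ : Subgroup G)) : G)),
    Ov ((Ce Q).subgroupOf (N ⊓ In Q θ)).subtype η.1 ξ.1}

/-! ### general block theory -/

/-- [EXT] a constituent of a character of height zero has height zero and extends over a defect group -/
def BoxEXT (p : ℕ) (M : Ideal AlgInt) : Prop := IsPModular p M →
  ∀ (G : Type) [Group G] [Finite G] (N : Subgroup G) [N.Normal] (B : Set (IrrCharacter G)) (D : Subgroup G),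
    IsPBlock M B → IsDefectGroup p M B D → ∀ χ ∈ B, df p χ = nc p D → ∀ θ : IrrCharacter N,
      Ov N.subtype (χ : G → ℂ) (θ : N → ℂ) → ∃ g : G, df p θ = nc p (cj g D ⊓ N) ∧
        (∀ d ∈ cj g D, Fixes N d (θ : N → ℂ)) ∧ ExtTo N (N ⊔ cj g D) (θ : N → ℂ)

/-- [MIN] -/
def BoxMin (p : ℕ) (M : Ideal AlgInt) : Prop :=
  ∀ (G : Type) [Group G] [Finite G] (B : Set (IrrCharacter G)) (D : Subgroup G), Ctx p M B D → Min p M B D

/-- [RT] a root normalised by the defect group; the Frattini argument -/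
def BoxRT (p : ℕ) (M : Ideal AlgInt) : Prop := IsPModular p M →
  ∀ (G : Type) [Group G] [Finite G] (N : Subgroup G) [N.Normal] (B : Set (IrrCharacter G)) (D : Subgroup G),
    IsPBlock M B → IsDefectGroup p M B D → IsPBlock M (cov B N) → IsStab (cov B N) ⊤ → Ab (D ⊓ N) →
      (∃ θ : G → ℂ, Root p M N (cov B N) (D ⊓ N) θ ∧ D ≤ In (D ⊓ N) θ) ∧
        ∀ θ : G → ℂ, Root p M N (cov B N) (D ⊓ N) θ → N ⊔ In (D ⊓ N) θ = ⊤

/-- [REG] regularity: with `K = N C_H(Q)`, `H` the inertia group of the root, the index of `K D` is prime to `p` as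
soon as the block of `K` covered by `B` is invariant; and `p`-elements of `K` modulo `N` fix the members of `b` -/
def BoxREG (p : ℕ) (M : Ideal AlgInt) : Prop := IsPModular p M →
  ∀ (G : Type) [Group G] [Finite G] (N : Subgroup G) [N.Normal] (B : Set (IrrCharacter G)) (D : Subgroup G),
    IsPBlock M B → IsDefectGroup p M B D → IsPBlock M (cov B N) → IsStab (cov B N) ⊤ →
    ∀ (Q : Subgroup G) (θ : G → ℂ), Root p M N (cov B N) Q θ →
      (∀ χ ∈ B, ∀ g, g ∉ N ⊔ (In Q θ ⊓ Ce Q) → MemLocalIdeal M (centralChar (χ : G → ℂ) g)) ∧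
      (∀ (K : Subgroup G) [K.Normal], N ⊔ (In Q θ ⊓ Ce Q) ≤ K → IsPBlock M (cov B K) → IsStab (cov B K) ⊤ →
        ¬ p ∣ (K ⊔ D).index) ∧
      ∀ y ∈ N ⊔ (In Q θ ⊓ Ce Q), (∃ k : ℕ, y ^ p ^ k ∈ N) → ∀ ψ ∈ cov B N, Fixes N y (ψ : N → ℂ)

/-- [PB] the projective version -/
def BoxPB (p : ℕ) (M : Ideal AlgInt) : Prop := IsPModular p M →
  ∀ (G : Type) [Group G] [Finite G] (B : Set (IrrCharacter G)) (D : Subgroup G), IsPBlock M B →
    IsDefectGroup p M B D → ∀ (Z : Subgroup G) [Z.Normal], Z ≤ Subgroup.center G → IsPGroup p Z →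
      BHg p M (G ⧸ Z) → ∀ lam : G → ℂ, (∃ χ ∈ B, ∀ z ∈ Z, (χ : G → ℂ) z = (χ : G → ℂ) 1 * lam z) →
        (∀ χ ∈ B, (∀ z ∈ Z, (χ : G → ℂ) z = (χ : G → ℂ) 1 * lam z) → df p χ = nc p D) → ⁅D, D⁆ ≤ Z

/-- the class of `w` under the image of `s` -/
def cls {N W : Type} [Group N] [Group W] (s : N →* W) (w : W) : Set W := {v | ∃ n : N, v = s n * w * (s n)⁻¹}

/-- a common cover of the character triples `(T, N, θ)` and `(T ⊓ H, N ⊓ H, θ')` with extensions which are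
congruent on the `p`-regular classes -/
structure Match (p : ℕ) (M : Ideal AlgInt) {G : Type} [Group G] (T N H : Subgroup G) (θ θ' : G → ℂ)
    (W : Type) [Group W] where
  π : W →* G
  s : N →* W
  ψ : W → ℂ
  ψ' : W → ℂ
  range : π.range = T
  cen : π.ker ≤ Subgroup.center W
  sec : ∀ n, π (s n) = n
  normal : s.range.Normal
  irr : IsIrrCharacter W ψ
  irr' : IsIrrCharacter (H.comap π) (fun w => ψ' w)
  ext : ∀ n : N, ψ (s n) = θ n
  ext' : ∀ n : N, (n : G) ∈ H → ψ' (s n) = θ' n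
  cong : ∀ w : W, ¬ p ∣ orderOf w →
    MemLocalIdeal M (∑ᶠ v ∈ cls s w, ψ v / θ 1 - ∑ᶠ v ∈ cls s w ∩ {v | π v ∈ H}, ψ' v / θ' 1)

/-- there is a finite common cover -/
def HasMatch (p : ℕ) (M : Ideal AlgInt) {G : Type} [Group G] (T N H : Subgroup G) (θ θ' : G → ℂ) : Prop :=
  ∃ (W : Type) (_ : Group W) (_ : Finite W), Nonempty (Match p M T N H θ θ' W)

/-- the character `χ` of `T` lies over the character `θ` of `N` -/
def Over {G : Type} [Group G] [Finite G] (T N : Subgroup G) (χ : T → ℂ) (θ : G → ℂ) : Prop :=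
  Ov (N.subgroupOf T).subtype χ (fun n => θ ((n : T) : G))

/-- [TT] heights zero pass through a match -/
def BoxTT (p : ℕ) (M : Ideal AlgInt) : Prop := IsPModular p M → KMa p →
  ∀ (G : Type) [Group G] [Finite G] (T N H : Subgroup G) (θ θ' : G → ℂ), N ≤ T → T ≤ N ⊔ (T ⊓ H) →
    IsIrrCharacter N (fun n => θ n) → IsIrrCharacter (N ⊓ H : Subgroup G) (fun n => θ' n) →
    HasMatch p M T N H θ θ' → IHz p M (N.relIndex T) →
    ∀ (B : Set (IrrCharacter T)) (D : Subgroup G), D ≤ T → IsPBlock M B → IsDefectGroup p M B (D.subgroupOf T) →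
      (∀ χ ∈ B, Over T N (χ : T → ℂ) θ → df p χ = nc p D) →
      (charDegree θ).factorization p + nc p (D ⊓ N) = nc p N →
      (charDegree θ').factorization p + nc p (D ⊓ N) = nc p (N ⊓ H) →
      (∀ t ∈ T, ExtTo (N ⊓ H) ((N ⊔ cj t D) ⊓ H) (fun n => θ' n)) →
      ∀ χ' : IrrCharacter (T ⊓ H : Subgroup G), Over (T ⊓ H) (N ⊓ H) (χ' : (T ⊓ H : Subgroup G) → ℂ) θ' →
        (∃ χ : IrrCharacter T, Over T N (χ : T → ℂ) θ ∧ ∀ c : Set (IrrCharacter T), IsPBlock M c →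
          (χ ∈ c ↔ ¬ MemLocalIdeal M (∑ᶠ g : (T ⊓ H : Subgroup G), blockCoeff c ⟨g, g.2.1⟩ *
            (χ' : (T ⊓ H : Subgroup G) → ℂ) g / (χ' : (T ⊓ H : Subgroup G) → ℂ) 1))) ∧
        (¬ MemLocalIdeal M (∑ᶠ g : (T ⊓ H : Subgroup G), blockCoeff B ⟨g, g.2.1⟩ *
          (χ' : (T ⊓ H : Subgroup G) → ℂ) g / (χ' : (T ⊓ H : Subgroup G) → ℂ) 1) → df p χ' = nc p D)

/-- [DQ] an invariant character below characters of height zero only -/
def BoxDQ (p : ℕ) (M : Ideal AlgInt) : Prop := IsPModular p M →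
  ∀ (G : Type) [Group G] [Finite G] (N : Subgroup G) [N.Normal] (B : Set (IrrCharacter G)) (D : Subgroup G),
    IsPBlock M B → IsDefectGroup p M B D → IHz p M N.index → ∀ θ ∈ cov B N, (∀ g, Fixes N g (θ : N → ℂ)) →
      (∀ χ ∈ B, Ov N.subtype (χ : G → ℂ) (θ : N → ℂ) → df p χ = nc p D) → ⁅D, D⁆ ≤ N

/-- [RZ] the defect group centralizes `C_Q(E)` -/
def BoxRZ (p : ℕ) (M : Ideal AlgInt) : Prop := IsPModular p M → KMa p →
  ∀ (G : Type) [Group G] [Finite G] (N : Subgroup G) [N.Normal] (B : Set (IrrCharacter G)) (D : Subgroup G),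
    IsPBlock M B → IsDefectGroup p M B D → EQ p B → IsPBlock M (cov B N) → IsStab (cov B N) ⊤ →
    IHz p M (Nat.card (D ⊓ N : Subgroup G) * N.index) → ∀ θ : G → ℂ, Root p M N (cov B N) (D ⊓ N) θ →
      D ≤ N ⊔ (In (D ⊓ N) θ ⊓ Ce (Zr N (D ⊓ N) θ))

/-! ### one block and groups of automorphisms -/

/-- three members of `b` which are not conjugate under automorphisms -/
def Three {K : Type} [Group K] (b : Set (IrrCharacter K)) : Prop :=
  ∃ χ₁ ∈ Fn b, ∃ χ₂ ∈ Fn b, ∃ χ₃ ∈ Fn b, ∀ α : MulAut K, χ₁ ∘ α ≠ χ₂ ∧ χ₁ ∘ α ≠ χ₃ ∧ χ₂ ∘ α ≠ χ₃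

/-- the automorphisms which fix the function `f` -/
def FixF {K : Type} [Group K] (f : K → ℂ) : Subgroup (MulAut K) := LA ⊤ f

/-- [ORB] if the orbits of `A` on `b` are those of `A₀` and one of them has length prime to `p`, then the orbits on
the defect group agree -/
def BoxORB (p : ℕ) (M : Ideal AlgInt) : Prop :=
  ∀ (K : Type) [Group K] [Finite K] (b : Set (IrrCharacter K)) (Q : Subgroup K) (θ : K → ℂ), Can p M b Q θ →
    ∀ A A₀ : Subgroup (MulAut K), Inn K ≤ A₀ → A₀ ≤ A → A ≤ Stab b → (∃ χ ∈ Fn b, ¬ p ∣ (FixF χ).relIndex A) →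
      (∀ χ ∈ Fn b, ∀ α ∈ A, ∃ β ∈ A₀, χ ∘ α = χ ∘ β) →
      ∀ α ∈ A ⊓ LA Q θ, ∀ u ∈ Q, ∃ β ∈ A₀ ⊓ LA Q θ, α u = β u

/-- [TWO] without three orbits the nontrivial elements of the defect group are conjugate -/
def BoxTWO (p : ℕ) (M : Ideal AlgInt) : Prop :=
  ∀ (K : Type) [Group K] [Finite K] (b : Set (IrrCharacter K)) (Q : Subgroup K) (θ : K → ℂ), Can p M b Q θ →
    ¬ Three b → ∀ u ∈ Q, ∀ v ∈ Q, u ≠ 1 → v ≠ 1 → ∃ α ∈ LA Q θ, α u = v

/-- [CNT] the number of members fixed by a `p`-automorphism -/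
def BoxCNT (p : ℕ) (M : Ideal AlgInt) : Prop :=
  ∀ (K : Type) [Group K] [Finite K] (b : Set (IrrCharacter K)) (Q : Subgroup K) (θ : K → ℂ), Can p M b Q θ →
    ∀ α ∈ LA Q θ, PElt p α →
      (∀ t ∈ In Q θ, (∀ u ∈ Q, t * α u * t⁻¹ = α (t * u * t⁻¹)) → ∀ u ∈ Q, α u = u → t * u * t⁻¹ = u) →
      {χ ∈ Fn b | χ ∘ α = χ}.ncard ≤ {u : K | u ∈ Q ∧ α u = u}.ncard

/-- a faithful block with abelian defect group of a cover of `S` with cyclic centre of order prime to `p` -/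
structure QHyp (p : ℕ) (M : Ideal AlgInt) {K : Type} [Group K] (b : Set (IrrCharacter K)) (Q : Subgroup K)
    (θ : K → ℂ) {S : Type} [Group S] (σ : K →* S) : Prop where
  can : Can p M b Q θ
  km : KMa p
  qs : IsQuasisimple K
  surj : Function.Surjective σ
  ker : σ.ker = Subgroup.center K
  zp : ¬ p ∣ Nat.card (Subgroup.center K)
  cyc : IsCyclic (Subgroup.center K)
  faith : ∀ χ ∈ b, ∀ z ∈ Subgroup.center K, (χ : K → ℂ) z = (χ : K → ℂ) 1 → z = 1

/-- what is known on the automorphisms induced by `G` (`A`) and by a normal subgroup of index `p` (`A₀`) -/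
structure AHyp (p : ℕ) {K : Type} [Group K] (b : Set (IrrCharacter K)) (Q : Subgroup K) (θ : K → ℂ)
    (A A₀ : Subgroup (MulAut K)) : Prop where
  inn : Inn K ≤ A₀
  le : A₀ ≤ A
  stab : A ≤ Stab b
  fixZ : ∀ α ∈ A, ∀ z ∈ Subgroup.center K, α z = z
  normal : (A₀.subgroupOf A).Normal
  index : A₀.relIndex A = p
  /-- `A₀` acts on `Q` through a group of order prime to `p` -/
  c0 : ∀ α ∈ A₀ ⊓ LA Q θ, PElt p α → ∀ u ∈ Q, α u = u
  /-- `A₀` acts on `b` through a group of order prime to `p` -/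
  f0 : ∀ α ∈ A₀, PElt p α → ∀ χ ∈ Fn b, χ ∘ α = χ
  orb : ∀ χ ∈ Fn b, ¬ p ∣ (FixF χ).relIndex A
  orbQ : ∀ u ∈ Q, ¬ p ∣ (FixE u).relIndex (A ⊓ LA Q θ)
  cz : ∀ α ∈ A ⊓ LA Q θ, ∀ z ∈ Q ⊓ Ce (In Q θ), α z = z

/-- the `p`-elements of `A` which fix the root centralize the defect group -/
def Cen (p : ℕ) {K : Type} [Group K] (Q : Subgroup K) (θ : K → ℂ) (A : Subgroup (MulAut K)) : Prop :=
  ∀ α ∈ A ⊓ LA Q θ, PElt p α → ∀ u ∈ Q, α u = u

/-- `b` is covered by blocks with equal degrees in a cyclic extension normalised by `A` -/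
def NC (p : ℕ) {K : Type} [Group K] (b : Set (IrrCharacter K)) (Q : Subgroup K) (A : Subgroup (MulAut K)) : Prop :=
  ∃ δ ∈ Stab b, (∀ z ∈ Subgroup.center K, δ z = z) ∧ ¬ p ∣ orderOf δ ∧
    (∀ α ∈ A, α * δ * α⁻¹ ∈ Subgroup.zpowers δ ⊔ Inn K) ∧ (∃ χ ∈ Fn b, χ ∘ δ = χ) ∧
    (∃ d : ℂ, ∀ χ ∈ Fn b, ((FixF χ).relIndex (Subgroup.zpowers δ) : ℂ) * χ 1 = d) ∧
    (Inn K).relIndex (Subgroup.zpowers δ) * Nat.card Q < (Subgroup.center K).index

/-- the conclusion of the rows -/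
def AutOK (p : ℕ) {K : Type} [Group K] (b : Set (IrrCharacter K)) (Q : Subgroup K) (θ : K → ℂ) : Prop :=
  ∀ A A₀ : Subgroup (MulAut K), AHyp p b Q θ A A₀ → Cen p Q θ A ∨ NC p b Q A

/-- the derived group of the outer automorphism group is abelian with a cyclic Sylow `3`-subgroup, whose order
divides the order of the group -/
def OutC (S : Type) [Group S] : Prop :=
  ⁅commutator (MulAut S), commutator (MulAut S)⁆ ≤ Inn S ∧ ∃ δ ∈ commutator (MulAut S), ∃ k : ℕ,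
    δ ^ 3 ^ k ∈ Inn S ∧ 3 ^ k ∣ Nat.card S ∧ ¬ 3 ∣ (Subgroup.zpowers δ ⊔ Inn S).relIndex (commutator (MulAut S) ⊔ Inn S)

/-- the row for an odd prime -/
def RowO (p : ℕ) (S : Type) [Group S] : Prop :=
  ∀ (K : Type) [Group K] [Finite K] (σ : K →* S) (M : Ideal AlgInt) (b : Set (IrrCharacter K)) (Q : Subgroup K)
    (θ : K → ℂ), QHyp p M b Q θ σ → AutOK p b Q θ

/-- the row for the prime `2` -/
def Row2 (S : Type) [Group S] : Prop :=
  ∀ (K : Type) [Group K] [Finite K] (σ : K →* S) (M : Ideal AlgInt) (b : Set (IrrCharacter K)) (Q : Subgroup K)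
    (θ : K → ℂ), QHyp 2 M b Q θ σ → In Q θ ≤ Ce Q ∨ (Idx Q θ ∧ OutC S) ∨ (Three b ∧ AutOK 2 b Q θ)

/-- rows for a family (families: `KM.CAlt`, `KM.CLie`, `KM.CPsl`, ...) -/
def RowOFor (C : ℕ → ∀ (S : Type) [Group S], Prop) : Prop :=
  ∀ (p : ℕ) [Fact p.Prime], p ≠ 2 → ∀ (S : Type) [Group S] [Finite S] [IsSimpleGroup S],
    ¬ IsMulCommutative S → C p S → RowO p S

/-- rows for a family, `p = 2` -/
def Row2For (C : ℕ → ∀ (S : Type) [Group S], Prop) : Prop :=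
  ∀ (S : Type) [Group S] [Finite S] [IsSimpleGroup S], ¬ IsMulCommutative S → C 2 S → Row2 S

/-- [V4] index at most four -/
def BoxV4 (M : Ideal AlgInt) : Prop :=
  ∀ (K : Type) [Group K] [Finite K] (S : Type) [Group S] (σ : K →* S) (b : Set (IrrCharacter K)) (Q : Subgroup K)
    (θ : K → ℂ), QHyp 2 M b Q θ σ → Idx Q θ → OutC S → AutOK 2 b Q θ

/-- the small defect groups -/
def Small (p : ℕ) {K : Type} [Group K] (Q : Subgroup K) : Prop :=
  (p ≠ 2 ∧ Nat.card Q = p) ∨ (p = 2 ∧ Nat.card Q = 4)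

/-- three orbits or a small defect group -/
def TRI (p : ℕ) (M : Ideal AlgInt) : Prop :=
  ∀ (K : Type) [Group K] [Finite K] (S : Type) [Group S] (σ : K →* S) (b : Set (IrrCharacter K)) (Q : Subgroup K)
    (θ : K → ℂ), QHyp p M b Q θ σ → Q ≠ ⊥ → Q ⊓ Ce (In Q θ) = ⊥ → Three b ∨ Small p Q

/-- the automorphism statement for all covers -/
def AUT (p : ℕ) (M : Ideal AlgInt) : Prop :=
  ∀ (K : Type) [Group K] [Finite K] (S : Type) [Group S] (σ : K →* S) (b : Set (IrrCharacter K)) (Q : Subgroup K)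
    (θ : K → ℂ), QHyp p M b Q θ σ → AutOK p b Q θ

/-- [TRI] odd primes -/
def BoxTRI (p : ℕ) (M : Ideal AlgInt) : Prop := p ≠ 2 → TRI p M

/-! ### small defect groups with two orbits -/

/-- [S1] an equivariant matching with the inertia group of the root, for one normal subgroup -/
def BoxS1 (p : ℕ) (M : Ideal AlgInt) : Prop := KMa p →
  ∀ (Y : Type) [Group Y] [Finite Y] (S : Subgroup Y) [S.Normal] (b : Set (IrrCharacter S)) (Q : Subgroup Y)
    (θ : Y → ℂ), Root p M S b Q θ → S ⊔ In Q θ = ⊤ → Small p Q → Zr S Q θ = ⊥ → ¬ Three b →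
    ∃ τ : (Y → ℂ) → (Y → ℂ),
      (∀ χ : Y → ℂ, ∀ h ∈ In Q θ, τ (χ ∘ MulAut.conj h) = τ χ ∘ MulAut.conj h) ∧
      (∀ χ : Y → ℂ, ∀ y, y ∉ S ⊓ In Q θ → τ χ y = 0) ∧
      (∀ χ χ' : Y → ℂ, (fun n : S => χ n) ∈ Fn b → (fun n : S => χ' n) ∈ Fn b → τ χ = τ χ' →
        ∀ n : S, χ n = χ' n) ∧
      (∀ η ∈ LocB M S Q θ, ∃ χ : Y → ℂ, (fun n : S => χ n) ∈ Fn b ∧ (∀ y, y ∉ S → χ y = 0) ∧
        ∀ n : (S ⊓ In Q θ : Subgroup Y), τ χ n = η.1 n) ∧
      ∀ χ : Y → ℂ, (fun n : S => χ n) ∈ Fn b → (∀ y, y ∉ S → χ y = 0) →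
        (fun n : (S ⊓ In Q θ : Subgroup Y) => τ χ n) ∈ Fn (LocB M S Q θ) ∧
        HasMatch p M (In ⊤ χ) S (In Q θ) χ (τ χ)

/-- [SPL] if `C_Q(E) = 1`, invariant members of the local block extend over `p`-groups -/
def BoxSPL (p : ℕ) (M : Ideal AlgInt) : Prop :=
  ∀ (G : Type) [Group G] [Finite G] (N : Subgroup G) [N.Normal] (b : Set (IrrCharacter N)) (Q : Subgroup G)
    (θ : G → ℂ), Root p M N b Q θ → Zr N Q θ = ⊥ → ∀ R : Subgroup G, N ⊓ In Q θ ≤ R → R ≤ In Q θ →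
      (∃ k : ℕ, N.relIndex R = p ^ k) → ∀ η : G → ℂ,
        (fun n : (N ⊓ In Q θ : Subgroup G) => η n) ∈ Fn (LocB M N Q θ) →
        (∀ r ∈ R, ∀ n ∈ N ⊓ In Q θ, η (r * n * r⁻¹) = η n) → ExtTo (N ⊓ In Q θ) R (fun n => η n)

/-- [STAR] a component with a small defect group and no three orbits is impossible -/
def BoxSTAR (p : ℕ) (M : Ideal AlgInt) : Prop :=
  ∀ (G : Type) [Group G] [Finite G] (B : Set (IrrCharacter G)) (D : Subgroup G), Min p M B D → pCore p G = ⊥ →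
    ∀ K : Subgroup G, IsComponent K → K ≠ ⊤ → ∀ θ : G → ℂ, Root p M K (cov B K) (D ⊓ K) θ → Small p (D ⊓ K) →
      Zr K (D ⊓ K) θ = ⊥ → Three (cov B K)

/-- [HT] the Heisenberg overgroup -/
def BoxHT (p : ℕ) (M : Ideal AlgInt) : Prop :=
  ∀ (G : Type) [Group G] [Finite G] (B : Set (IrrCharacter G)) (D : Subgroup G), Min p M B D → pCore p G = ⊥ →
    ∀ (K : Subgroup G) [K.Normal], IsQuasisimple K → K ≠ ⊤ →
      NC p (cov B K) ((D ⊓ K).subgroupOf K) (MulAut.conjNormal : G →* MulAut K).range → D ≤ Ce (D ⊓ K)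

/-! ### the skeleton -/

/-- [OP] -/
def BoxOP (p : ℕ) (M : Ideal AlgInt) : Prop :=
  ∀ (G : Type) [Group G] [Finite G] (B : Set (IrrCharacter G)) (D : Subgroup G), Min p M B D → pCore p G = ⊥

/-- [CMP] the blocks of the components -/
def BoxCMP (p : ℕ) (M : Ideal AlgInt) : Prop :=
  ∀ (G : Type) [Group G] [Finite G] (B : Set (IrrCharacter G)) (D : Subgroup G), Min p M B D → pCore p G = ⊥ →
    Ce (layer G) = Subgroup.center G ∧ D ⊓ (layer G ⊔ Subgroup.center G) = ⨆ K ∈ {K | IsComponent K}, D ⊓ K ∧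
    ∀ K : Subgroup G, IsComponent K → K ≠ ⊤ → D ⊓ K ≠ ⊥ ∧ IsPBlock M (cov B K) ∧
      (∀ g ∈ Subgroup.normalizer (K : Set G), StabH K.subtype (cov B K) g) ∧
      ∃ θ : G → ℂ, Root p M K (cov B K) (D ⊓ K) θ ∧
        QHyp p M (cov B K) ((D ⊓ K).subgroupOf K) (fun k : K => θ k) (QuotientGroup.mk' (Subgroup.center K)) ∧
        D ≤ Ce (Zr K (D ⊓ K) θ)

/-- [PERM] the components are normal -/
def BoxPERM (p : ℕ) (M : Ideal AlgInt) : Prop := TRI p M →
  ∀ (G : Type) [Group G] [Finite G] (B : Set (IrrCharacter G)) (D : Subgroup G), Min p M B D → pCore p G = ⊥ →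
    G0 G = ⊤

/-- [I] a normal subgroup of index `p` above a normal component -/
def BoxI (p : ℕ) (M : Ideal AlgInt) : Prop := AUT p M →
  ∀ (G : Type) [Group G] [Finite G] (B : Set (IrrCharacter G)) (D : Subgroup G), Min p M B D → pCore p G = ⊥ →
    ∀ (L : Subgroup G) [L.Normal], L.index = p → ∀ (K : Subgroup G) [K.Normal], IsQuasisimple K → K ≤ L →
      D ≤ Ce (D ⊓ K)

/-- [FIN] -/
def BoxFIN (p : ℕ) (M : Ideal AlgInt) : Prop :=
  ∀ (G : Type) [Group G] [Finite G] (B : Set (IrrCharacter G)) (D : Subgroup G), Min p M B D →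
    ∀ (N : Subgroup G) [N.Normal], N ≠ ⊤ → ¬ N ≤ Subgroup.center G → ¬ D ≤ Ce (D ⊓ N)

end Cfsg.Agent.BH
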