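import Cfsg.Agent.KM.BK.B
import Cfsg.Agent.H650.StarDat
import Cfsg.Agent.S4677
import Cfsg.Agent.S5001
import Cfsg.Agent.S5329

/-!
# BH, box PB: the projective form of the height zero conjecture (helper35)

* `isCentral` : a central subgroup of `G` contained in `P` is central in the fusion system of a block;
* `exists_lam` : a linear character of `Z` which extends to `P` extends to `P / foc`;
* `exists_shift` : the star construction moves the characters over `lam` to the characters over `lam * lam'`;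
* `hz_defl`, `pb` : if all members of `B` over `lam` have height zero, so do all members of the dominated block.
-/

set_option autoImplicit false
set_option linter.style.haveILetI false
set_option linter.unusedSectionVars false

open Cfsg
open scoped commutatorElement

namespace Cfsg.Agent.BH.PB

open Cfsg.Agent Cfsg.Agent.Characters.Core Cfsg.Agent.Blocks Cfsg.Agent.KM.BK
open Cfsg.Agent.H649 Cfsg.Agent.H651 Cfsg.Agent.H650 Cfsg.Agent.H608.KKL
open Cfsg.Agent.H644.CentralQuot (defl infl)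

universe u

variable {p : ℕ} [Fact p.Prime] {M : Ideal AlgInt} {G : Type u} [Group G] [Finite G]
  {B : Set (IrrCharacter G)} {D : Subgroup G}

/-- extension of a linear character modulo a subgroup containing the commutators -/
theorem ext_mod {X : Type u} {Y : Type u} [Group X] [Finite X] [Group Y] {N : Subgroup X}
    (hN : ∀ x y : X, x⁻¹ * (y * x * y⁻¹) ∈ N) (j : Y →* X) (c : Y →* ℂˣ) (h : ∀ z, j z ∈ N → c z = 1) :
    ∃ l : X →* ℂˣ, (∀ x ∈ N, l x = 1) ∧ ∀ z, l (j z) = c z := by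
  have hKn : N.Normal := normal_of_commutator hN
  let _ : CommGroup (X ⧸ N) :=
    { (inferInstance : Group (X ⧸ N)) with
      mul_comm := by
        intro a b
        obtain ⟨x, rfl⟩ := QuotientGroup.mk_surjective a
        obtain ⟨y, rfl⟩ := QuotientGroup.mk_surjective b
        rw [← QuotientGroup.mk_mul, ← QuotientGroup.mk_mul, QuotientGroup.eq]
        have h3 := N.inv_mem (hN (y * x) y⁻¹)
        have h4 : ((y * x)⁻¹ * (y⁻¹ * (y * x) * y⁻¹⁻¹))⁻¹ = (x * y)⁻¹ * (y * x) := by group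
        rwa [h4] at h3 }
  let f : Y →* X ⧸ N := (QuotientGroup.mk' N).comp j
  have hk : f.rangeRestrict.ker ≤ c.ker := by
    intro z hz
    rw [MonoidHom.ker_rangeRestrict, MonoidHom.mem_ker] at hz
    exact h z ((QuotientGroup.eq_one_iff _).1 hz)
  obtain ⟨μ, hμ⟩ := MonoidHom.domRestrict_surjective (M := ℂ) f.range
    (f.rangeRestrict.liftOfSurjective f.rangeRestrict_surjective ⟨c, hk⟩)
  refine ⟨μ.comp (QuotientGroup.mk' N), fun x hx => ?_, fun z => ?_⟩
  · rw [MonoidHom.comp_apply, show QuotientGroup.mk' N x = 1 from (QuotientGroup.eq_one_iff x).2 hx, map_one]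
  · have h4 := DFunLike.congr_fun hμ (f.rangeRestrict z)
    rw [MonoidHom.liftOfRightInverse_comp_apply] at h4
    exact h4

theorem eq_of_omega (hM : IsPModular p M) {H K : Subgroup G} (h : H = K) {f : Set (IrrCharacter H)}
    (hf : IsPBlock M f) {a : Set (IrrCharacter K)} (ha : IsPBlock M a)
    (h1 : ∀ ξ ∈ a, MemLocalIdeal M
      (∑ᶠ x : K, subgroupBlockCoeff H f x * (ξ : K → ℂ) x / (ξ : K → ℂ) 1 - 1)) : HEq f a := by
  classical
  subst h
  have := Local.isPrime_of_isPModular hM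
  letI := Fintype.ofFinite H
  obtain ⟨ξ, rfl⟩ := ha
  have hξ := Basic.mem_blockOf_self (M := M) ξ
  have h2 := h1 ξ hξ
  rw [finsum_eq_sum_of_fintype] at h2
  simp only [subgroupBlockCoeff_coe] at h2
  rw [← Finset.sum_div, Fong.sum_blockCoeff_mul] at h2
  by_cases h3 : ξ ∈ f
  · exact heq_of_eq (Basic.isPBlock_eq_blockOf hf h3)
  · rw [if_neg h3, zero_div, zero_sub] at h2
    exact absurd (by simpa using Local.memLocalIdeal_neg h2) Local.not_memLocalIdeal_one

/-- pairs above a given pair on a subgroup with the same centraliser -/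
theorem up_unique (hM : IsPModular p M) {Q R : Subgroup G}
    (hC : Subgroup.centralizer (Q : Set G) = Subgroup.centralizer (R : Set G))
    (hN : R ≤ Subgroup.normalizer (Q : Set G)) {f : Set (IrrCharacter (Subgroup.centralizer (Q : Set G)))}
    {a b : Set (IrrCharacter (Subgroup.centralizer (R : Set G)))} (ha : IsBrauerPair p M R a)
    (hb : IsBrauerPair p M R b) (h1 : SubpairLE p M Q f R a) (h2 : SubpairLE p M Q f R b) : a = b := by
  have := Local.isPrime_of_isPModular hM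
  have h3 := H644.isNormalSubpair_of_subpairLE hM ha h1 hN
  have h4 := H644.isNormalSubpair_of_subpairLE hM hb h2 hN
  exact eq_of_heq ((eq_of_omega hM hC h3.1.2 ha.2 h3.2.2.2.2.2).symm.trans
    (eq_of_omega hM hC h4.1.2 hb.2 h4.2.2.2.2.2))

omit [Finite G] in
theorem cent_sup {Q Z : Subgroup G} (hZ : Z ≤ Subgroup.center G) :
    Subgroup.centralizer (Q : Set G) = Subgroup.centralizer ((Q ⊔ Z : Subgroup G) : Set G) := by
  refine le_antisymm ?_ (Subgroup.centralizer_le (SetLike.coe_subset_coe.2 le_sup_left))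
  rw [← Subgroup.le_centralizer_iff]
  refine sup_le (Subgroup.le_centralizer_iff.1 le_rfl) fun z hz => ?_
  exact Subgroup.center_le_centralizer _ (hZ hz)

omit [Finite G] in
theorem sup_le_norm {Q Z : Subgroup G} (hZ : Z ≤ Subgroup.center G) :
    Q ⊔ Z ≤ Subgroup.normalizer (Q : Set G) :=
  sup_le Subgroup.le_normalizer (hZ.trans (Subgroup.center_le_normalizer _))

omit [Finite G] in
theorem map_conj_central {Z : Subgroup G} (hZ : Z ≤ Subgroup.center G) (g : G) :
    Z.map (MulAut.conj g).toMonoidHom = Z := by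
  have h : ∀ z ∈ Z, (MulAut.conj g).toMonoidHom z = z := fun z hz => by
    change g * z * g⁻¹ = z
    rw [Subgroup.mem_center_iff.1 (hZ hz) g, mul_inv_cancel_right]
  ext z
  constructor
  · rintro ⟨y, hy, rfl⟩
    rwa [h y hy]
  · exact fun hz => ⟨z, hz, h z hz⟩

variable {e : Set (IrrCharacter (Subgroup.centralizer (D : Set G)))} {F : FusionSystem D}

/-- **Central subgroups of `G` are central in the fusion system.** -/
theorem isCentral (hM : IsPModular p M) (hF : IsBlockFusionSystemOn p M B D e F) {Z : Subgroup G}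
    (hZ : Z ≤ Subgroup.center G) (hZD : Z ≤ D) : F.IsCentral Z := by
  have := Local.isPrime_of_isPModular hM
  refine ⟨hZD, fun Q φ hφ => ?_⟩
  obtain ⟨hQ, g, hg, hgQ, f, h1, h2⟩ := (hF.2 Q φ).1 hφ
  have hDe := hF.1.1.1
  have hR : Q ⊔ Z ≤ D := sup_le hQ hZD
  have hm : (Q ⊔ Z).map (MulAut.conj g).toMonoidHom = Q.map (MulAut.conj g).toMonoidHom ⊔ Z := by
    rw [Subgroup.map_sup, map_conj_central hZ]
  have hgR : (Q ⊔ Z).map (MulAut.conj g).toMonoidHom ≤ D := by
    rw [hm]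
    exact sup_le hgQ hZD
  obtain ⟨a, ha⟩ := H644.exists_subpairLE hM hDe _ hR
  obtain ⟨b, hb⟩ := H644.exists_subpairLE hM hDe _ hgR
  have h3 := (subpairLE_conj_iff Q (Q ⊔ Z) g f a).2 (H644.subpairLE_of_subpairLE hM hDe h1 ha le_sup_left)
  have h4 := H644.subpairLE_of_subpairLE hM hDe h2 hb (Subgroup.map_mono le_sup_left)
  have h5 : conjBlock (Q ⊔ Z) g a = b :=
    up_unique hM (by rw [hm]; exact cent_sup hZ) (by rw [hm]; exact sup_le_norm hZ)
      (SubpairLE.isBrauerPair_right h3 (SubpairLE.isBrauerPair h2 hDe)) (SubpairLE.isBrauerPair hb hDe) h3 h4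
  refine ⟨conjHom (Q ⊔ Z) g, (hF.2 _ _).2 ⟨hR, g, fun _ => rfl, hgR, a, ha, by rw [h5]; exact hb⟩,
    fun x => (hg x).symm, fun z => ?_⟩
  change g * (z : G) * g⁻¹ = z
  rw [Subgroup.mem_center_iff.1 (hZ z.2) g, mul_inv_cancel_right]

/-- **A character of `Z` which extends to `D` extends to `D / foc`.** -/
theorem exists_lam (hM : IsPModular p M) (hF : IsBlockFusionSystemOn p M B D e F) (hs : F.IsSaturated p)
    {Z : Subgroup G} (hZ : Z ≤ Subgroup.center G) (hZD : Z ≤ D) (μ : D →* ℂˣ) :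
    ∃ l ∈ Lam F, ∀ z : Z, l ⟨z, hZD z.2⟩ = μ ⟨z, hZD z.2⟩ := by
  have h1 := S5329.result p hF.1.1.1.1 F hs
  have h2 : Z ≤ F.center := le_sSup (isCentral hM hF hZ hZD)
  refine ext_mod (fun x y => focal_conj_mem x y) (Subgroup.inclusion hZD) (μ.comp (Subgroup.inclusion hZD))
    fun z hz => ?_
  have h3 : (z : G) ∈ F.focalSubgroup ⊓ F.center := ⟨hz, h2 z.2⟩
  rw [h1] at h3
  have h4 : ⁅D, D⁆ ≤ μ.ker.map D.subtype := by
    refine Subgroup.commutator_le.2 fun x hx y hy => ⟨⁅(⟨x, hx⟩ : D), (⟨y, hy⟩ : D)⁆, ?_, rfl⟩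
    change μ _ = 1
    rw [map_commutatorElement, commutatorElement_eq_one_iff_mul_comm]
    exact mul_comm _ _
  obtain ⟨y, hy, hyz⟩ := h4 h3.1
  have h5 : Subgroup.inclusion hZD z = y := Subtype.ext hyz.symm
  rw [MonoidHom.comp_apply, h5]
  exact hy

/-- **The shift**: multiplication of the central character by a character which extends to `D`. -/
theorem exists_shift (hM : IsPModular p M) (hB : IsPBlock M B) (hD : IsDefectGroup p M B D) {Z : Subgroup G}
    (hZ : Z ≤ Subgroup.center G) (hZD : Z ≤ D) (μ : D →* ℂˣ) {χ : IrrCharacter G} (hχ : χ ∈ B) :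
    ∃ χ' ∈ B, (χ' : G → ℂ) 1 = (χ : G → ℂ) 1 ∧
      ∀ z : Z, (χ' : G → ℂ) z = (μ ⟨z, hZD z.2⟩ : ℂ) * (χ : G → ℂ) z := by
  have := Local.isPrime_of_isPModular hM
  have := Fintype.ofFinite G
  obtain ⟨e, he⟩ := H644.exists_pair_of_le_isDefectGroup hM hB hD le_rfl
  have hmax := H644.isMaximalBrauerPair_of_isDefectGroup hM he hD
  obtain ⟨F, hF, hs⟩ := S4677.result p M hM B D e hmax
  obtain ⟨l, hl, hlz⟩ := exists_lam hM hF hs hZ hZD μ
  have hd := dat_of hM hmax hF
  refine ⟨hd.act ⟨l, hl⟩ χ hχ, hd.act_mem _ _ _, hd.act_apply_one _ _ _, fun z => ?_⟩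
  rw [hd.act_coe, star_apply_central (a := ⟨D, e⟩) hM hmax (isStable_ext0 hF hl) hχ (hZD z.2)
    (Subgroup.mem_center_iff.1 (hZ z.2)), ext0_of_mem _ (hZD z.2), hlz]

/-- heights do not change under inflation -/
theorem height_infl (hM : IsPModular p M) (hB : IsPBlock M B) {U : Subgroup G} [U.Normal]
    (hUc : U ≤ Subgroup.center G) (hUp : IsPGroup p U) {θ : IrrCharacter (G ⧸ U)} (hθ : θ ∈ defl U B) :
    blockHeight p (defl U B) (θ : G ⧸ U → ℂ) = blockHeight p B (infl U θ : G → ℂ) := by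
  letI := Fintype.ofFinite G
  obtain ⟨t, ht⟩ := IsPGroup.iff_card.1 hUp
  have h1 := H644.CentralQuot.blockDefect_defl hM hUc ht hB
  have h2 : (Nat.card G).factorization p = (Nat.card (G ⧸ U)).factorization p + t := by
    rw [Subgroup.card_eq_card_quotient_mul_card_subgroup U,
      Nat.factorization_mul Nat.card_pos.ne' Nat.card_pos.ne', Finsupp.add_apply, ht,
      (Fact.out : p.Prime).factorization_pow, Finsupp.single_eq_same]
  have h3 := nu_le (p := p) θ
  have h4 : sInf ((fun ψ : IrrCharacter G => (charDegree (ψ : G → ℂ)).factorization p) '' B) ≤ nu p θ :=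
    Nat.sInf_le ⟨_, hθ, rfl⟩
  have h5 : sInf ((fun ψ : IrrCharacter (G ⧸ U) => (charDegree (ψ : G ⧸ U → ℂ)).factorization p) '' defl U B) ≤
      nu p θ := Nat.sInf_le ⟨_, hθ, rfl⟩
  unfold blockDefect at h1
  unfold blockHeight
  change nu p θ - _ = nu p θ - _
  omega

/-- all members of `B` over `lam` have height zero, `lam` extends: the dominated block has all heights zero -/
theorem hz_defl (hM : IsPModular p M) (hB : IsPBlock M B) (hD : IsDefectGroup p M B D) {Z : Subgroup G} [Z.Normal]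
    (hZ : Z ≤ Subgroup.center G) (hZp : IsPGroup p Z) (hZD : Z ≤ D) (lam : Z →* ℂˣ) (μ : D →* ℂˣ)
    (hμ : ∀ z : Z, μ ⟨z, hZD z.2⟩ = lam z)
    (h0 : ∀ χ ∈ B, (∀ z : Z, (χ : G → ℂ) z = (χ : G → ℂ) 1 * (lam z : ℂ)) → blockHeight p B (χ : G → ℂ) = 0) :
    HZ p (defl Z B) := by
  intro θ hθ
  rw [height_infl hM hB hZ hZp hθ]
  obtain ⟨χ, hχ, h1, h2⟩ := exists_shift hM hB hD hZ hZD μ (χ := infl Z θ) hθ
  have h3 := h0 χ hχ fun z => by
    rw [h2, hμ, h1, mul_comm, H644.CentralQuot.infl_apply, (QuotientGroup.eq_one_iff _).2 z.2]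
    rfl
  unfold blockHeight charDegree at h3 ⊢
  rwa [h1] at h3

/-- **The projective form**: if some member of `B` lies over `lam` and all members over `lam` have height zero, and
the conjecture holds for `G / Z`, then `lam` extends to `D` and `D / Z` is abelian. -/
theorem pb (hM : IsPModular p M) (hB : IsPBlock M B) (hD : IsDefectGroup p M B D) {Z : Subgroup G} [Z.Normal]
    (hZ : Z ≤ Subgroup.center G) (hZp : IsPGroup p Z) (hZD : Z ≤ D) (lam : Z →* ℂˣ)
    (hex : ∃ χ ∈ B, ∀ z : Z, (χ : G → ℂ) z = (χ : G → ℂ) 1 * (lam z : ℂ))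
    (h0 : ∀ χ ∈ B, (∀ z : Z, (χ : G → ℂ) z = (χ : G → ℂ) 1 * (lam z : ℂ)) → blockHeight p B (χ : G → ℂ) = 0)
    (ih : ∀ (b : Set (IrrCharacter (G ⧸ Z))) (E : Subgroup (G ⧸ Z)), IsPBlock M b → IsDefectGroup p M b E →
      HZ p b → Ab E) :
    (∃ μ : D →* ℂˣ, ∀ z : Z, μ ⟨z, hZD z.2⟩ = lam z) ∧ ⁅D, D⁆ ≤ Z := by
  letI := Fintype.ofFinite G
  obtain ⟨χ, hχ, h1⟩ := hex
  obtain ⟨μ, hμ⟩ := S5001.result p M hM B hB D hD Z hZ hZp hZD lam χ hχ h1 (h0 χ hχ h1)
  refine ⟨⟨μ, hμ⟩, Subgroup.commutator_le.2 fun x hx y hy => ?_⟩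
  have h2 := ih _ _ (H644.CentralQuot.isPBlock_defl hM hZ hZp hB) (H658.isDefectGroup_defl hM hZ hZp hB hD).2
    (hz_defl hM hB hD hZ hZp hZD lam μ hμ h0) _ ⟨x, hx, rfl⟩ _ ⟨y, hy, rfl⟩
  rw [← QuotientGroup.eq_one_iff, ← QuotientGroup.mk'_apply, map_commutatorElement,
    commutatorElement_eq_one_iff_mul_comm]
  exact h2

/-- the faithful case: `D` is abelian -/
theorem pb_faithful (hM : IsPModular p M) (hB : IsPBlock M B) (hD : IsDefectGroup p M B D) {Z : Subgroup G}
    [Z.Normal] (hZ : Z ≤ Subgroup.center G) (hZp : IsPGroup p Z) (hZD : Z ≤ D) (lam : Z →* ℂˣ)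
    (hinj : ∀ z, lam z = 1 → z = 1) (hex : ∃ χ ∈ B, ∀ z : Z, (χ : G → ℂ) z = (χ : G → ℂ) 1 * (lam z : ℂ))
    (h0 : ∀ χ ∈ B, (∀ z : Z, (χ : G → ℂ) z = (χ : G → ℂ) 1 * (lam z : ℂ)) → blockHeight p B (χ : G → ℂ) = 0)
    (ih : ∀ (b : Set (IrrCharacter (G ⧸ Z))) (E : Subgroup (G ⧸ Z)), IsPBlock M b → IsDefectGroup p M b E →
      HZ p b → Ab E) : Ab D := by
  obtain ⟨⟨μ, hμ⟩, h1⟩ := pb hM hB hD hZ hZp hZD lam hex h0 ih
  intro x hx y hy
  have h2 : ⁅x, y⁆ ∈ Z := h1 (Subgroup.commutator_mem_commutator hx hy)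
  have h3 := hinj ⟨_, h2⟩ (by
    rw [← hμ]
    change μ ⁅(⟨x, hx⟩ : D), (⟨y, hy⟩ : D)⁆ = 1
    rw [map_commutatorElement, commutatorElement_eq_one_iff_mul_comm]
    exact mul_comm _ _)
  exact commutatorElement_eq_one_iff_mul_comm.1 (congrArg Subtype.val h3)

end Cfsg.Agent.BH.PB
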