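import Cfsg.Agent.BH.PB
import Cfsg.Agent.KM.Mu.C
import Cfsg.Agent.S0933
import Cfsg.Agent.CharactersDeep.ExtUnique

/-!
# BH, box TB: blocks over an invariant character (helper35)

* `BZ p M G` : the blocks of `G` with all heights zero have abelian defect groups;
* `pbZ` : the projective form for an arbitrary central subgroup;
* `tb0` : `df χ + ν|D ∩ N| ≤ df θ + ν|D|`;
* `tb1` : if all members of `B` over `θ` have height zero, `D N / N` is abelian and `θ` extends to `N D`.
-/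

set_option autoImplicit false
set_option linter.style.haveILetI false
set_option linter.unusedSectionVars false

open Cfsg
open scoped commutatorElement

namespace Cfsg.Agent.BH.TB

open Cfsg.Agent Cfsg.Agent.Characters.Core Cfsg.Agent.Blocks Cfsg.Agent.TID.Red Cfsg.Agent.KM.BK Cfsg.Agent.KM.Mu
open Cfsg.Agent.H592.Har Cfsg.Agent.H658.KKL.FongTwo

universe u

/-- The blocks of `G` with all heights zero have abelian defect groups. -/
def BZ (p : ℕ) (M : Ideal AlgInt) (G : Type u) [Group G] : Prop :=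
  ∀ (B : Set (IrrCharacter G)) (D : Subgroup G), IsPBlock M B → IsDefectGroup p M B D → HZ p B → Ab D

variable {p : ℕ} [Fact p.Prime] {M : Ideal AlgInt} {G : Type u} [Group G] [Finite G]
  {B : Set (IrrCharacter G)} {D : Subgroup G}

theorem exists_om (χ : IrrCharacter G) : ∃ c : Subgroup.center G →* ℂˣ, ∀ (x : G) (z : Subgroup.center G),
    (χ : G → ℂ) (x * z) = (χ : G → ℂ) x * (c z : ℂ) := by
  obtain ⟨c, hc, -⟩ := CharactersDeep.Extraspecial.exists_central_hom χ.2
  exact ⟨c, hc⟩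

/-- central characters in a block which agree on `D` -/
theorem om_eq (hM : IsPModular p M) (hB : IsPBlock M B) (hD : IsDefectGroup p M B D) {χ χ' : IrrCharacter G}
    (hχ : χ ∈ B) (hχ' : χ' ∈ B) {c c' : Subgroup.center G →* ℂˣ}
    (hc : ∀ (x : G) (z : Subgroup.center G), (χ : G → ℂ) (x * z) = (χ : G → ℂ) x * (c z : ℂ))
    (hc' : ∀ (x : G) (z : Subgroup.center G), (χ' : G → ℂ) (x * z) = (χ' : G → ℂ) x * (c' z : ℂ))
    (z : Subgroup.center G) (h : ∀ k : ℕ, ((z ^ k : Subgroup.center G) : G) ∈ D → c (z ^ k) = c' (z ^ k)) :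
    c z = c' z := by
  have := Local.isPrime_of_isPModular hM
  have hpr : p.Prime := Fact.out
  obtain ⟨a, m, hm, ham⟩ := Nat.exists_eq_pow_mul_and_not_dvd (Nat.card_pos (α := Subgroup.center G)).ne' p
    hpr.ne_one
  have hz : z ^ (p ^ a * m) = 1 := by rw [← ham, pow_card_eq_one']
  have hm0 : m ≠ 0 := fun h0 => hm (h0 ▸ dvd_zero p)
  have h1 : c (z ^ m) = c' (z ^ m) := by
    refine h m (mem_of_central hM hB hD (U := Subgroup.zpowers ((z ^ m : Subgroup.center G) : G))
      (Subgroup.zpowers_le.2 (z ^ m).2) ?_ (Subgroup.mem_zpowers _))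
    obtain ⟨k, -, hk⟩ := (Nat.dvd_prime_pow hpr).1 (orderOf_dvd_of_pow_eq_one (x := z ^ m) (n := p ^ a)
      (by rw [← pow_mul, mul_comm, hz]))
    exact IsPGroup.of_card (n := k) (by rw [Nat.card_zpowers, Subgroup.orderOf_coe, hk])
  have h2 : c (z ^ p ^ a) = c' (z ^ p ^ a) := by
    have h3 : ∀ d : Subgroup.center G →* ℂˣ, ((d (z ^ p ^ a) : ℂˣ) : ℂ) ^ m = 1 := fun d => by
      rw [← Units.val_pow_eq_pow_val, ← map_pow, ← pow_mul, hz, map_one, Units.val_one]
    refine Units.ext (root_eq hM hm hm0 (h3 c) (h3 c') ?_)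
    have h4 := Basic.isPBlock_sameBlock hB hχ hχ' ((z ^ p ^ a : Subgroup.center G) : G)
    have h5 := hc 1 (z ^ p ^ a)
    have h6 := hc' 1 (z ^ p ^ a)
    rw [one_mul] at h5 h6
    rwa [centralChar_central (z ^ p ^ a).2, centralChar_central (z ^ p ^ a).2, h5, h6,
      mul_div_cancel_left₀ _ (isIrr_apply_one_ne_zero χ.2),
      mul_div_cancel_left₀ _ (isIrr_apply_one_ne_zero χ'.2)] at h4
  have h3 := (pow_gcd_eq_one (a := c z * (c' z)⁻¹) (m := p ^ a) (n := m)).2
    ⟨by rw [mul_pow, inv_pow, ← map_pow, ← map_pow, h2, mul_inv_cancel],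
    by rw [mul_pow, inv_pow, ← map_pow, ← map_pow, h1, mul_inv_cancel]⟩
  rw [((Nat.Prime.coprime_iff_not_dvd hpr).2 hm).pow_left a, pow_one] at h3
  exact mul_inv_eq_one.1 h3

omit [Finite G] in
theorem normal_of_le {U : Subgroup G} (h : U ≤ Subgroup.center G) : U.Normal :=
  ⟨fun a ha g => by rwa [Subgroup.mem_center_iff.1 (h ha) g, mul_inv_cancel_right]⟩

theorem index_center_quot (U : Subgroup G) [U.Normal] :
    (Subgroup.center (G ⧸ U)).index ≤ (Subgroup.center G).index := by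
  have h1 : (Subgroup.center G).map (QuotientGroup.mk' U) ≤ Subgroup.center (G ⧸ U) := by
    rintro _ ⟨z, hz, rfl⟩
    rw [Subgroup.mem_center_iff]
    intro q
    obtain ⟨g, rfl⟩ := QuotientGroup.mk'_surjective U q
    rw [← map_mul, ← map_mul, Subgroup.mem_center_iff.1 hz g]
  exact (Subgroup.index_antitone h1).trans (Nat.le_of_dvd (Nat.pos_of_ne_zero Subgroup.index_ne_zero_of_finite)
    (Subgroup.index_map_dvd _ (QuotientGroup.mk'_surjective U)))

/-- **The projective form for an arbitrary central subgroup**, faithful case. -/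
theorem pbZ (hM : IsPModular p M) (hB : IsPBlock M B) (hD : IsDefectGroup p M B D) {Z : Subgroup G}
    (hZ : Z ≤ Subgroup.center G) {χ : IrrCharacter G} (hχ : χ ∈ B)
    (hf : ∀ z ∈ Z, (χ : G → ℂ) z = (χ : G → ℂ) 1 → z = 1)
    (h0 : ∀ χ' ∈ B, (∀ z ∈ Z, (χ' : G → ℂ) z * (χ : G → ℂ) 1 = (χ : G → ℂ) z * (χ' : G → ℂ) 1) →
      blockHeight p B (χ' : G → ℂ) = 0)
    (ih : ∀ (H : Type u) [Group H] [Finite H], (Subgroup.center H).index ≤ (Subgroup.center G).index → BZ p M H) :
    Ab D := by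
  obtain ⟨c, hc⟩ := exists_om χ
  have hU : Z ⊓ D ≤ Subgroup.center G := inf_le_left.trans hZ
  have := normal_of_le hU
  have h1 : ∀ z : Subgroup.center G, (χ : G → ℂ) z = (χ : G → ℂ) 1 * (c z : ℂ) := fun z => by
    rw [← hc, one_mul]
  refine PB.pb_faithful hM hB hD hU ((H592.Defect.isPGroup_of_isDefectGroup hD).to_le inf_le_right) inf_le_right
    (c.comp (Subgroup.inclusion hU)) (fun z hz => Subtype.ext (hf z z.2.1 ?_))
    ⟨χ, hχ, fun z => h1 (Subgroup.inclusion hU z)⟩ (fun χ' hχ' h2 => h0 χ' hχ' fun z hz => ?_)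
    (ih _ (index_center_quot _))
  · have h2 := h1 (Subgroup.inclusion hU z)
    rw [show c (Subgroup.inclusion hU z) = 1 from hz, Units.val_one, mul_one] at h2
    exact h2
  · obtain ⟨c', hc'⟩ := exists_om χ'
    have h3 : ∀ z : Subgroup.center G, (χ' : G → ℂ) z = (χ' : G → ℂ) 1 * (c' z : ℂ) := fun z => by
      rw [← hc', one_mul]
    have h4 := om_eq hM hB hD hχ hχ' hc hc' ⟨z, hZ hz⟩ fun k hk => by
      have h5 := h2 ⟨z ^ k, Z.pow_mem hz k, hk⟩
      have h6 := h3 (⟨z, hZ hz⟩ ^ k)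
      exact Units.ext (mul_left_cancel₀ (isIrr_apply_one_ne_zero χ'.2) (h5.symm.trans h6))
    have h5 := h1 ⟨z, hZ hz⟩
    have h6 := h3 ⟨z, hZ hz⟩
    change (χ : G → ℂ) z = _ at h5
    change (χ' : G → ℂ) z = _ at h6
    rw [h5, h6, h4]
    ring

section cover

variable {q : ℕ} {N : Subgroup G} [hN : N.Normal] {θ : N → ℂ} {E : Type u} [Group E] [Finite E]
  (C : Cover q N θ E)

/-- the image of a Sylow subgroup of the preimage of `D` -/
theorem syl (hM : IsPModular p M) (hθ : IsIrrCharacter N θ) (hB : IsPBlock M B) (hD : IsDefectGroup p M B D)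
    {χ : IrrCharacter G} (hχ : χ ∈ B) {η : IrrCharacter (E ⧸ C.s.range)}
    (h : ∀ x : E, (χ : G → ℂ) (C.π x) = C.ψ x * (η : E ⧸ C.s.range → ℂ) x) {R : Subgroup E} (hR : IsPGroup p R)
    (hRD : R.map C.π = D)
    (hRc : (Nat.card R).factorization p = (Nat.card C.π.ker).factorization p + (Nat.card D).factorization p) :
    ∃ y : E ⧸ C.s.range, ¬ MemLocalIdeal M (centralChar (η : E ⧸ C.s.range → ℂ) y) ∧
      Basic.IsSylowCentralizer p y (R.map (QuotientGroup.mk' C.s.range)) := by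
  have := Local.isPrime_of_isPModular hM
  obtain ⟨g, hg, hDg⟩ := Basic.isDefectGroup_iff.1 hD
  obtain ⟨x, rfl, hx⟩ := exists_reg_lift C.surj (H614.Spin.isPRegular_of_isDefectClass hM hB hg)
  have hRx := le_cent_of_reg C.ker_le hR hx (hRD ▸ Basic.le_centralizer_of_isSylowCentralizer hDg)
  have hA := fac_mul (p := p) (card_comap' C.surj (Subgroup.centralizer ({C.π x} : Set G))) Nat.card_pos.ne'
  rw [← fac_sylow hDg, ← hRc] at hA
  have hCA : Subgroup.centralizer ({x} : Set E) ≤ A C x := centralizer_le_comap C.π x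
  have h1 := fac_mono (p := p) hCA
  have h2 := fac_mono (p := p) hRx
  have h3 := fac_mul (p := p) (card_inf_mul (A C x) (Subgroup.centralizer ({x} : Set E))) Nat.card_pos.ne'
  rw [inf_eq_right.2 hCA] at h3
  change _ = (Nat.card (A C x)).factorization p at hA
  have ha : ¬ p ∣ (Subgroup.centralizer ({x} : Set E)).relIndex (A C x) := fun h4 => by
    have h5 := ((Fact.out : p.Prime).dvd_iff_one_le_factorization (relIndexA_ne_zero C x)).1 h4
    omega
  have hu := hg.2.2 χ hχ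
  rw [cc_eq C h x] at hu
  have hηR := Elementary.memLocalRing_centralChar (M := M) η.2 (x : E ⧸ C.s.range)
  have haR := Local.memLocalRing_inv_natCast hM ha
  have hu1 : ¬ MemLocalIdeal M (centralChar (η : E ⧸ C.s.range → ℂ) x) := fun h4 =>
    hu (Local.memLocalIdeal_mul_left (Local.memLocalRing_mul haR (memLocalRing_T C hθ x)) h4)
  have hCT : Subgroup.centralizer ({x} : Set E) ≤ T C x := centralizer_le_comap (QuotientGroup.mk' C.s.range) x
  set U : Subgroup E := C.s.range ⊔ Subgroup.centralizer ({x} : Set E) with hU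
  have hUT : U ≤ T C x := sup_le (range_le_T C x) hCT
  have hxU : x ∈ U := le_sup_right (a := C.s.range) (Subgroup.mem_centralizer_singleton_iff.2 rfl)
  have hc : Subgroup.centralizer ({(⟨x, hxU⟩ : U)} : Set U) = (Subgroup.centralizer ({x} : Set E)).subgroupOf U := by
    ext t
    rw [Subgroup.mem_subgroupOf, Subgroup.mem_centralizer_singleton_iff, Subgroup.mem_centralizer_singleton_iff]
    exact Subtype.ext_iff
  have hk : ¬ p ∣ U.relIndex (T C x) := fun h4 => by
    have h5 := Elementary.memLocalRing_centralChar (M := M) (isIrr_res_of_le C hθ U le_sup_left) ⟨x, hxU⟩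
    unfold centralChar at h5
    rw [hc] at h5
    refine hu (Local.memLocalIdeal_mul_right (Local.memLocalIdeal_mul_left haR ?_) hηR)
    rw [← Subgroup.relIndex_mul_relIndex _ U _ le_sup_right hUT, Nat.cast_mul, mul_comm _ (U.relIndex (T C x) : ℂ),
      mul_assoc, mul_div_assoc]
    exact Local.memLocalIdeal_mul_right ((Local.memLocalIdeal_natCast_iff hM _).2 h4) h5
  have hT := fac_mul (p := p) (card_comap' (QuotientGroup.mk'_surjective C.s.range)
    (Subgroup.centralizer ({(x : E ⧸ C.s.range)} : Set (E ⧸ C.s.range)))) Nat.card_pos.ne'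
  rw [QuotientGroup.ker_mk'] at hT
  change _ = (Nat.card (T C x)).factorization p at hT
  have h4 := fac_mul (p := p) (card_inf_mul (T C x) U) Nat.card_pos.ne'
  rw [inf_eq_right.2 hUT, Nat.factorization_eq_zero_of_not_dvd hk] at h4
  have h5 := fac_mul (p := p) (card_inf_mul U C.s.range) Nat.card_pos.ne'
  rw [inf_eq_right.2 le_sup_left, hU, Subgroup.relIndex_sup_left, ← hU] at h5
  have h6 := fac_mul (p := p) (card_inf_mul (Subgroup.centralizer ({x} : Set E)) C.s.range) Nat.card_pos.ne'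
  have h7 := fac_mul (p := p) (card_ker_mul (QuotientGroup.mk' C.s.range) R) Nat.card_pos.ne'
  rw [QuotientGroup.ker_mk'] at h7
  have h8 := fac_mono (p := p) (inf_le_inf_right C.s.range hRx)
  refine ⟨x, hu1, sylow_of_fac (hR.map _) (Subgroup.map_le_iff_le_comap.2 (hRx.trans hCT)) ?_⟩
  omega

theorem fac_R (hD : IsPGroup p D) {R : Subgroup E} (hR : IsPGroup p R) (hRD : R.map C.π = D)
    (hRc : (Nat.card R).factorization p = (Nat.card C.π.ker).factorization p + (Nat.card D).factorization p) :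
    (Nat.card (R.map (QuotientGroup.mk' C.s.range))).factorization p +
      (Nat.card (D ⊓ N : Subgroup G)).factorization p =
      (Nat.card C.π.ker).factorization p + (Nat.card D).factorization p := by
  set Q : Subgroup E := ((D ⊓ N).subgroupOf N).map C.s with hQ
  have hQp : IsPGroup p Q := (hD.to_le inf_le_left).comap_subtype.map _
  have hQc : Nat.card Q = Nat.card (D ⊓ N : Subgroup G) := by
    rw [hQ, Subgroup.card_map_of_injective C.s_injective, card_sub inf_le_right]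
  have hmem : ∀ w, w ∈ Q ↔ w ∈ C.s.range ∧ C.π w ∈ D := fun w => by
    constructor
    · rintro ⟨n, hn, rfl⟩
      exact ⟨⟨n, rfl⟩, by rw [C.sec]; exact hn.1⟩
    · rintro ⟨⟨n, rfl⟩, h2⟩
      rw [C.sec] at h2
      exact ⟨n, ⟨h2, n.2⟩, rfl⟩
  have hRn : R ≤ Subgroup.normalizer (Q : Set E) := fun r hr => by
    have h1 : C.π r ∈ D := hRD ▸ Subgroup.mem_map_of_mem _ hr
    refine Subgroup.mem_normalizer_fintype fun w hw => ?_
    obtain ⟨h2, h3⟩ := (hmem w).1 hw
    refine (hmem _).2 ⟨C.normal.conj_mem w h2 r, ?_⟩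
    rw [map_mul, map_mul, map_inv]
    exact D.mul_mem (D.mul_mem h1 h3) (D.inv_mem h1)
  have h1 : R ⊔ Q ≤ D.comap C.π := sup_le (Subgroup.map_le_iff_le_comap.1 hRD.le) fun w hw => ((hmem w).1 hw).2
  have h2 := fac_mono (p := p) h1
  have h3 := fac_mul (p := p) (card_comap' C.surj D) Nat.card_pos.ne'
  have h4 := H592.Defect.eq_of_le_of_factorization p hR (IsPGroup.to_sup_of_normal_right' hR hQp hRn) le_sup_left
    (by omega)
  have h5 : Q ≤ R ⊓ C.s.range := le_inf (le_sup_right.trans h4.ge) (Subgroup.map_le_range _ _)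
  have h6 := fac_mono (p := p) h5
  have h7 := fac_mul (p := p) (card_ker_mul (QuotientGroup.mk' C.s.range) R) Nat.card_pos.ne'
  rw [QuotientGroup.ker_mk'] at h7
  have h8 := fac_inf_range (p := p) C hRD.le
  rw [hQc] at h6
  omega

theorem df_star {θ : IrrCharacter N} (C : Cover q N (θ : N → ℂ) E) {χ : IrrCharacter G}
    {η : IrrCharacter (E ⧸ C.s.range)}
    (h : ∀ x : E, (χ : G → ℂ) (C.π x) = C.ψ x * (η : E ⧸ C.s.range → ℂ) x) :
    df p χ + (Nat.card C.π.ker).factorization p = df p η + df p θ := by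
  have hdeg : charDegree (θ : N → ℂ) = charDegree C.ψ := by
    unfold charDegree
    rw [theta_one C]
  have h8 := fac_mul (p := p) (card_E C).symm Nat.card_pos.ne'
  have h9 := fac_mul (p := p) (card_E' C).symm Nat.card_pos.ne'
  have h10 := fac_mul (p := p) (charDegree_mul C h).symm (Basic.charDegree_pos χ.2).ne'
  have h11 := df_add (p := p) χ
  have h12 := df_add (p := p) η
  have h13 := df_add (p := p) θ
  rw [← hdeg] at h10
  rw [card_range C] at h9
  change nu p θ + nu p η = nu p χ at h10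
  omega

/-- descent of a character with the same values on the centre -/
theorem descend' (hθ : IsIrrCharacter N θ) {χ : IrrCharacter G} {η η' : IrrCharacter (E ⧸ C.s.range)}
    (h : ∀ x : E, (χ : G → ℂ) (C.π x) = C.ψ x * (η : E ⧸ C.s.range → ℂ) x)
    (hz : ∀ z ∈ C.Z, (η' : E ⧸ C.s.range → ℂ) z * (η : E ⧸ C.s.range → ℂ) 1 =
      (η : E ⧸ C.s.range → ℂ) z * (η' : E ⧸ C.s.range → ℂ) 1) :
    ∃ χ' : IrrCharacter G, ∀ x : E, (χ' : G → ℂ) (C.π x) = C.ψ x * (η' : E ⧸ C.s.range → ℂ) x := by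
  have hψ1 := isIrr_apply_one_ne_zero C.irr
  have hη1 := isIrr_apply_one_ne_zero η.2
  have hη1' := isIrr_apply_one_ne_zero η'.2
  have hFirr : IsIrrCharacter E fun x => (η' : E ⧸ C.s.range → ℂ) x * C.ψ x := by
    refine H595.Triple.isIrr_mul_inflate C.s.range C.irr (C.isIrr_res hθ)
      (β := fun x : E => (η' : E ⧸ C.s.range → ℂ) x) ?_ ?_
    · exact isIrr_comp (QuotientGroup.mk' C.s.range) (QuotientGroup.mk'_surjective _) η'.2
    · intro x hx
      rw [(QuotientGroup.eq_one_iff x).2 hx, QuotientGroup.mk_one]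
  obtain ⟨χ', hχ'⟩ := H595.Central.descend C.π C.surj ⟨_, hFirr⟩ fun x k hk => by
    have hkZ : (k : E ⧸ C.s.range) ∈ C.Z := ⟨k, hk, rfl⟩
    have h1 := apply_mul_central ⟨_, C.irr⟩ (C.ker_le hk) x
    have h2 := apply_mul_central η' (C.Z_le_center hkZ) x
    have h3 := h k
    have h4 := h 1
    have h5 := hz _ hkZ
    rw [hk] at h3
    rw [map_one, QuotientGroup.mk_one, h3] at h4
    change C.ψ (x * k) = C.ψ k / C.ψ 1 * C.ψ x at h1
    change (η' : E ⧸ C.s.range → ℂ) ((x * k : E) : E ⧸ C.s.range) * C.ψ (x * k) =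
      (η' : E ⧸ C.s.range → ℂ) x * C.ψ x
    have h6 : (η' : E ⧸ C.s.range → ℂ) k * C.ψ k = (η' : E ⧸ C.s.range → ℂ) 1 * C.ψ 1 := by
      refine mul_right_cancel₀ hη1 ?_
      linear_combination C.ψ k * h5 + (η' : E ⧸ C.s.range → ℂ) 1 * h4
    rw [QuotientGroup.mk_mul, h1, h2]
    field_simp
    linear_combination (η' : E ⧸ C.s.range → ℂ) x * C.ψ x * h6
  exact ⟨χ', fun x => (hχ' x).trans (mul_comm _ _)⟩

/-- same block of the quotient, same block of `G` -/
theorem sameBlock' [M.IsPrime] (hθ : IsIrrCharacter N θ) (hf : ∀ z ∈ C.π.ker, C.ψ z = C.ψ 1 → z = 1)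
    {χ χ' : G → ℂ} {η η' : E ⧸ C.s.range → ℂ}
    (h : ∀ x : E, χ (C.π x) = C.ψ x * η x) (h' : ∀ x : E, χ' (C.π x) = C.ψ x * η' x)
    (hb : SameBlock M η η') : SameBlock M χ χ' := by
  intro g
  obtain ⟨x, rfl⟩ := C.surj g
  rw [cc_eq C h x, cc_eq C h' x, ← mul_sub]
  refine Local.memLocalIdeal_mul_left ?_ (hb x)
  unfold uf
  by_cases h0 : C.ψ x = 0
  · rw [h0, mul_zero, zero_div, mul_zero]
    exact Local.memLocalRing_zero
  · have h1 : (Subgroup.centralizer ({x} : Set E)).relIndex (A C x) = 1 := by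
      refine Subgroup.relIndex_eq_one.2 fun c hc => ?_
      have h2 : C.π c * C.π x = C.π x * C.π c := Subgroup.mem_centralizer_singleton_iff.1 hc
      have h3 : x⁻¹ * (c * x * c⁻¹) ∈ C.π.ker := by
        rw [MonoidHom.mem_ker, map_mul, map_mul, map_mul, map_inv, map_inv, h2]
        group
      have h4 := apply_mul_central ⟨_, C.irr⟩ (C.ker_le h3) x
      change C.ψ (x * _) = C.ψ _ / C.ψ 1 * C.ψ x at h4
      rw [mul_inv_cancel_left, Basic.irr_isClassFunction C.irr x c] at h4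
      have h5 := hf _ h3 ((div_eq_one_iff_eq (isIrr_apply_one_ne_zero C.irr)).1
        (mul_right_cancel₀ h0 (h4.symm.trans (one_mul _).symm)))
      rw [Subgroup.mem_centralizer_singleton_iff]
      rw [inv_mul_eq_one, eq_mul_inv_iff_mul_eq] at h5
      exact h5.symm
    rw [h1, Nat.cast_one, inv_one, one_mul]
    exact memLocalRing_T C hθ x

end cover

variable {N : Subgroup G} [hN : N.Normal]

/-- **The defect of a character over an invariant character.** -/
theorem tb0 (hM : IsPModular p M) (hB : IsPBlock M B) (hD : IsDefectGroup p M B D) {θ : IrrCharacter N}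
    (hinv : ∀ (g : G) (n : N), (θ : N → ℂ) ⟨g * n * g⁻¹, hN.conj_mem n n.2 g⟩ = (θ : N → ℂ) n)
    {χ : IrrCharacter G} (hχ : χ ∈ B) (hov : Ov N.subtype (χ : G → ℂ) (θ : N → ℂ)) :
    df p χ + (Nat.card (D ⊓ N : Subgroup G)).factorization p ≤ df p θ + (Nat.card D).factorization p := by
  have := Local.isPrime_of_isPModular hM
  letI := Fintype.ofFinite N
  have hDp := H592.Defect.isPGroup_of_isDefectGroup hD
  obtain ⟨q, E, i1, i2, C, hf⟩ := exists_cover N θ hinv
  obtain ⟨η, h⟩ := C.exists_star θ.2 χ ((ov_subtype_iff N _ _).1 hov)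
  obtain ⟨R, hR, hRD, hRc⟩ := exists_R C.surj hDp
  obtain ⟨y, hy, hs⟩ := syl C hM θ.2 hB hD hχ h hR hRD hRc
  have hb : IsPBlock M (blockOf M (η : E ⧸ C.s.range → ℂ)) := ⟨η, rfl⟩
  obtain ⟨D', hD'⟩ := H592.Defect.exists_defectGroup p hM hb
  have h1 := df_le hM hb hD' (Basic.mem_blockOf_self η)
  have h2 := fac_le_cent hM hb hD' (Basic.mem_blockOf_self η) hy
  have h3 := fac_sylow hs
  have h4 := fac_R C hDp hR hRD hRc
  have h5 := df_star (p := p) C h
  omega

/-- **All members over `θ` have height zero.** -/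
theorem tb1 (hM : IsPModular p M) (hB : IsPBlock M B) (hD : IsDefectGroup p M B D) {θ : IrrCharacter N}
    (hinv : ∀ (g : G) (n : N), (θ : N → ℂ) ⟨g * n * g⁻¹, hN.conj_mem n n.2 g⟩ = (θ : N → ℂ) n)
    (hex : ∃ χ ∈ B, Ov N.subtype (χ : G → ℂ) (θ : N → ℂ))
    (h0 : ∀ χ ∈ B, Ov N.subtype (χ : G → ℂ) (θ : N → ℂ) →
      df p θ + (Nat.card D).factorization p ≤ df p χ + (Nat.card (D ⊓ N : Subgroup G)).factorization p)
    (ih : ∀ (H : Type u) [Group H] [Finite H], (Subgroup.center H).index ≤ N.index → BZ p M H) :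
    (∀ x ∈ D, ∀ y ∈ D, ⁅x, y⁆ ∈ N) ∧ ∃ ξ : IrrCharacter (N ⊔ D : Subgroup G),
      ∀ n : N, (ξ : (N ⊔ D : Subgroup G) → ℂ) ⟨n, le_sup_left (b := D) n.2⟩ = (θ : N → ℂ) n := by
  have := Local.isPrime_of_isPModular hM
  letI := Fintype.ofFinite N
  have hDp := H592.Defect.isPGroup_of_isDefectGroup hD
  obtain ⟨χ, hχ, hov⟩ := hex
  obtain ⟨q, E, i1, i2, C, hf⟩ := exists_cover N θ hinv
  obtain ⟨η, h⟩ := C.exists_star θ.2 χ ((ov_subtype_iff N _ _).1 hov)
  obtain ⟨R, hR, hRD, hRc⟩ := exists_R C.surj hDp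
  obtain ⟨y, hy, hs⟩ := syl C hM θ.2 hB hD hχ h hR hRD hRc
  have hb : IsPBlock M (blockOf M (η : E ⧸ C.s.range → ℂ)) := ⟨η, rfl⟩
  have h4 := fac_R C hDp hR hRD hRc
  have hd := defect_of_unit hM hb (Basic.mem_blockOf_self η) hy hs (by
    have h5 := df_star (p := p) C h
    have h6 := h0 χ hχ hov
    omega)
  have hη1 := isIrr_apply_one_ne_zero η.2
  have hψ1 := isIrr_apply_one_ne_zero C.irr
  have hab : Ab (R.map (QuotientGroup.mk' C.s.range)) := by
    refine pbZ hM hb hd C.Z_le_center (Basic.mem_blockOf_self η) ?_ (fun η' hη' hz => ?_) fun H _ _ hH =>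
      ih H (hH.trans ((Subgroup.index_antitone C.Z_le_center).trans C.index_Z.le))
    · rintro _ ⟨k, hk, rfl⟩ h1
      have h2 := h k
      have h3 := h 1
      rw [MonoidHom.mem_ker.1 hk] at h2
      rw [map_one, QuotientGroup.mk_one, h2] at h3
      change (η : E ⧸ C.s.range → ℂ) k = _ at h1
      rw [h1] at h3
      rw [hf k hk (mul_right_cancel₀ hη1 h3), map_one]
    · obtain ⟨χ', h'⟩ := descend' C θ.2 h hz
      have h1 : χ' ∈ B := Basic.isPBlock_mem_of_sameBlock hB hχ (sameBlock' C θ.2 hf h h' hη')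
      have h2 := h0 χ' h1 ((ov_subtype_iff N _ _).2 (by
        have h3 : (fun n : N => (χ' : G → ℂ) n) = (η' : E ⧸ C.s.range → ℂ) 1 • (θ : N → ℂ) :=
          funext fun n => (res_eq C h' n).trans (mul_comm _ _)
        rw [h3, classInner_smul_left, classInner_irr_self θ.2, mul_one]
        exact isIrr_apply_one_ne_zero η'.2))
      have h3 := df_star (p := p) C h'
      exact height_zero hM hb hd (by omega)
  have hdec : ∀ w : E, C.π w ∈ N ⊔ D → ∃ z ∈ Subgroup.center (E ⧸ C.s.range),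
      ∃ r ∈ R.map (QuotientGroup.mk' C.s.range), (w : E ⧸ C.s.range) = z * r := by
    intro w hw
    obtain ⟨n, hn, d, hd', h1⟩ := Subgroup.mem_sup_of_normal_left.1 hw
    obtain ⟨r, hr, rfl⟩ := hRD.ge hd'
    refine ⟨(w * r⁻¹ : E), C.Z_le_center (C.mem_Z_of_mem ?_), r, ⟨r, hr, rfl⟩, ?_⟩
    · rwa [map_mul, map_inv, ← h1, mul_inv_cancel_right]
    · rw [← QuotientGroup.mk_mul, inv_mul_cancel_right]
  have hcomm : ∀ v w : E, C.π v ∈ N ⊔ D → C.π w ∈ N ⊔ D →
      (v : E ⧸ C.s.range) * w = (w : E ⧸ C.s.range) * v := by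
    intro v w hv hw
    obtain ⟨a, ha, r, hr, h1⟩ := hdec v hv
    obtain ⟨b, hb', t, ht, h2⟩ := hdec w hw
    have h3 := Subgroup.mem_center_iff.1 ha
    have h5 := Subgroup.mem_center_iff.1 hb'
    rw [h1, h2, mul_assoc, ← mul_assoc r, h5 r, mul_assoc b, hab r hr t ht, mul_assoc b, ← mul_assoc t, h3 t,
      ← mul_assoc, ← h3 b]
    simp only [mul_assoc]
  refine ⟨fun x hx y' hy' => ?_, ?_⟩
  · obtain ⟨v, rfl⟩ := C.surj x
    obtain ⟨w, rfl⟩ := C.surj y'
    have h1 : ⁅v, w⁆ ∈ C.s.range := by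
      rw [← QuotientGroup.eq_one_iff, ← QuotientGroup.mk'_apply, map_commutatorElement,
        commutatorElement_eq_one_iff_mul_comm]
      exact hcomm v w (le_sup_right (a := N) hx) (le_sup_right (a := N) hy')
    obtain ⟨n, hn⟩ := h1
    rw [← map_commutatorElement, ← hn, C.sec]
    exact n.2
  · set W : Subgroup E := (N ⊔ D).comap C.π with hW
    have hkW : C.π.ker ≤ W := Subgroup.ker_le_comap _ _
    have hsW : C.s.range ≤ W := by
      rintro _ ⟨n, rfl⟩
      rw [hW, Subgroup.mem_comap, C.sec]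
      exact le_sup_left (b := D) n.2
    obtain ⟨c, hc⟩ := exists_om (G := E) ⟨_, C.irr⟩
    obtain ⟨l, hl1, hl2⟩ := PB.ext_mod (N := C.s.range.subgroupOf W) (fun a b => by
      rw [Subgroup.mem_subgroupOf, ← QuotientGroup.eq_one_iff]
      simp only [Subgroup.coe_mul, Subgroup.coe_inv, QuotientGroup.mk_mul, QuotientGroup.mk_inv]
      rw [hcomm b a b.2 a.2]
      group) (Subgroup.inclusion hkW) (c.comp (Subgroup.inclusion C.ker_le))⁻¹ fun z hz => by
        obtain ⟨n, hn⟩ : (z : E) ∈ C.s.range := hz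
        have h1 : n = 1 := Subtype.ext (by rw [← C.sec, hn]; exact z.2)
        have h2 : z = 1 := Subtype.ext (by rw [← hn, h1, map_one]; rfl)
        rw [h2, map_one]
    have hirr : IsIrrCharacter W fun w => C.ψ w * (l w : ℂ) :=
      CharactersDeep.ExtUnique.isIrr_mul_hom (isIrr_res_of_le C θ.2 W hsW) l
    obtain ⟨ξ, hξ⟩ := H595.Central.descend (C.π.subgroupComap (N ⊔ D))
      (C.π.subgroupComap_surjective_of_surjective _ C.surj) ⟨_, hirr⟩ fun x k hk => by
        have h1 : (k : E) ∈ C.π.ker := congrArg Subtype.val hk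
        have h2 := hl2 ⟨k, h1⟩
        have h3 := hc x ⟨k, C.ker_le h1⟩
        change l k = (c ⟨k, C.ker_le h1⟩)⁻¹ at h2
        change C.ψ ((x : E) * k) = C.ψ x * _ at h3
        change C.ψ ((x : E) * k) * (l (x * k) : ℂ) = C.ψ x * (l x : ℂ)
        rw [map_mul, h2, h3, Units.val_mul, Units.val_inv_eq_inv_val]
        field_simp
    refine ⟨ξ, fun n => ?_⟩
    have h1 := hξ ⟨C.s n, hsW ⟨n, rfl⟩⟩
    have h2 : (C.π.subgroupComap (N ⊔ D)) ⟨C.s n, hsW ⟨n, rfl⟩⟩ = ⟨n, le_sup_left (b := D) n.2⟩ :=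
      Subtype.ext (C.sec n)
    rw [h2] at h1
    rw [h1]
    change C.ψ (C.s n) * (l ⟨C.s n, hsW ⟨n, rfl⟩⟩ : ℂ) = _
    rw [hl1 _ ⟨n, rfl⟩, Units.val_one, mul_one, C.ext]

end Cfsg.Agent.BH.TB
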